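import Mathlib.AlgebraicGeometry.IdealSheaf.Functorial
import Mathlib.AlgebraicGeometry.AffineScheme

/-!
# The inverse image ideal sheaf on affine opens
-/

set_option autoImplicit false
universe u

open CategoryTheory AlgebraicGeometry

namespace Groth.BlowUpBasics

variable {X Y : Scheme.{u}}

lemma ideal_comap_top [IsAffine X] [IsAffine Y] (g : X ⟶ Y) (J : Y.IdealSheafData) :
    (J.comap g).ideal ⟨⊤, isAffineOpen_top X⟩ =
      (J.ideal ⟨⊤, isAffineOpen_top Y⟩).map g.appTop.hom := by
  refine le_antisymm ?_ ?_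
  · have h : J.comap g ≤ Scheme.IdealSheafData.ofIdealTop
        ((J.ideal ⟨⊤, isAffineOpen_top Y⟩).map g.appTop.hom) := by
      rw [← Scheme.IdealSheafData.le_map_iff_comap_le]
      refine Scheme.IdealSheafData.le_of_isAffine ?_
      rw [Scheme.IdealSheafData.ideal_map _ _ _ (by simpa using isAffineOpen_top X)]
      change _ ≤ Ideal.comap g.appTop.hom ((Scheme.IdealSheafData.ofIdealTop _).ideal ⟨⊤, isAffineOpen_top X⟩)
      simpa using Ideal.le_comap_map (f := g.appTop.hom) (I := J.ideal ⟨⊤, isAffineOpen_top Y⟩)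
    have := h ⟨⊤, isAffineOpen_top X⟩
    simpa using this
  · rw [Ideal.map_le_iff_le_comap]
    have h := (J.le_map_comap g) ⟨⊤, isAffineOpen_top Y⟩
    rw [Scheme.IdealSheafData.ideal_map _ _ _ (by simpa using isAffineOpen_top X)] at h
    exact h

lemma ideal_comap_opensι (I : X.IdealSheafData) (V : X.affineOpens) (hV : IsAffineOpen (⊤ : V.1.toScheme.Opens)) :
    ((I.comap V.1.ι).ideal ⟨⊤, hV⟩).map V.1.topIso.hom.hom = I.ideal V := by
  rw [Scheme.IdealSheafData.ideal_comap_of_isOpenImmersion, Scheme.Opens.ι_appIso]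
  simp only [Iso.refl_inv]
  erw [Ideal.comap_id]
  exact I.map_ideal' (U := V) (V := ⟨V.1.ι ''ᵁ ⊤, _⟩) _

/-- The ideal of the inverse image ideal sheaf on an affine open mapping into an affine open. -/
theorem ideal_comap (f : X ⟶ Y) (I : Y.IdealSheafData) (U : Y.affineOpens) (V : X.affineOpens)
    (e : V.1 ≤ f ⁻¹ᵁ U.1) :
    (I.comap f).ideal V = (I.ideal U).map (f.appLE U.1 V.1 e).hom := by
  have : IsAffine V.1.toScheme := V.2
  have : IsAffine U.1.toScheme := U.2
  rw [← ideal_comap_opensι (I.comap f) V (isAffineOpen_top _), ← ideal_comap_opensι I U (isAffineOpen_top _),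
    ← Scheme.IdealSheafData.comap_comp, ← Scheme.Hom.resLE_comp_ι f e, Scheme.IdealSheafData.comap_comp,
    ideal_comap_top, Ideal.map_map, Ideal.map_map, ← CommRingCat.hom_comp, ← CommRingCat.hom_comp]
  congr 2
  simp only [Scheme.Hom.appTop, Scheme.Hom.resLE_app_top, Category.assoc, Iso.inv_hom_id, Category.comp_id]

end Groth.BlowUpBasics
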