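import Groth.Agent.BlowUpBasics.Proj
import Groth.Agent.Divisors.BlowUpBasic
import Mathlib.AlgebraicGeometry.RelativeGluing

/-!
# Blow-ups are local on the base; existence of blow-ups
-/

set_option autoImplicit false
universe u

open CategoryTheory AlgebraicGeometry Limits

namespace Groth.BlowUpBasics

variable {X X' : Scheme.{u}} {b : X' ⟶ X} {I : X.IdealSheafData}

lemma isBlowUp_iso_source (hb : BlowUp.IsBlowUp b I) {X'' : Scheme.{u}} (e : X'' ≅ X') :
    BlowUp.IsBlowUp (e.hom ≫ b) I := by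
  refine ⟨?_, fun Y g hg ↦ ?_⟩
  · rw [Scheme.IdealSheafData.comap_comp]
    exact isEffCartierIdeal_comap_of_flat e.hom hb.1
  · obtain ⟨h, hh, hu⟩ := hb.2 Y g hg
    refine ⟨h ≫ e.inv, by simp [hh], fun k hk ↦ ?_⟩
    rw [← hu (k ≫ e.hom) (by simpa using hk)]
    simp

/-- Blow-ups commute with flat base change, in the form of a cartesian square. -/
theorem isBlowUp_of_isPullback {Z P : Scheme.{u}} {p : P ⟶ Z} {q : P ⟶ X'} {g : Z ⟶ X} [Flat g]
    (hb : BlowUp.IsBlowUp b I) (H : IsPullback p q g b) : BlowUp.IsBlowUp p (I.comap g) := by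
  rw [← H.isoPullback_hom_fst]
  exact isBlowUp_iso_source (Groth.Divisors.isBlowUp_flat_pullback g hb) H.isoPullback

theorem isBlowUp_morphismRestrict (hb : BlowUp.IsBlowUp b I) (U : X.Opens) :
    BlowUp.IsBlowUp (b ∣_ U) (I.comap U.ι) :=
  isBlowUp_of_isPullback hb (isPullback_morphismRestrict b U)

lemma isEffCartierIdeal_of_openCover {Y : Scheme.{u}} (𝒰 : Y.OpenCover) {J : Y.IdealSheafData}
    (h : ∀ i, BlowUp.IsEffCartierIdeal (J.comap (𝒰.f i))) : BlowUp.IsEffCartierIdeal J := by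
  intro x
  obtain ⟨i, y, rfl⟩ := 𝒰.exists_eq x
  obtain ⟨W, hyW, t, ht, hWt⟩ := h i y
  let V : Y.affineOpens := ⟨𝒰.f i ''ᵁ W.1, W.2.image_of_isOpenImmersion (𝒰.f i)⟩
  have e : W.1 ≤ 𝒰.f i ⁻¹ᵁ V.1 := ((𝒰.f i).preimage_image_eq W.1).ge
  refine ⟨V, ⟨y, hyW, rfl⟩, ((𝒰.f i).appIso W.1).inv.hom t, ?_, ?_⟩
  · exact map_mem_nonZeroDivisors_of_flat (RingHom.Flat.of_bijective
      ((𝒰.f i).appIso W.1).symm.commRingCatIsoToRingEquiv.bijective) ht
  · have h1 := Scheme.IdealSheafData.ideal_comap_of_isOpenImmersion J (𝒰.f i) W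
    rw [hWt] at h1
    have h2 := congrArg (Ideal.map ((𝒰.f i).appIso W.1).inv.hom) h1
    rw [Ideal.map_comap_of_surjective ((𝒰.f i).appIso W.1).inv.hom
      (ConcreteCategory.bijective_of_isIso ((𝒰.f i).appIso W.1).inv).2, Ideal.map_span,
      Set.image_singleton] at h2
    exact h2.symm

/-- Being a blow-up is local on the base. -/
theorem isBlowUp_of_cover {ι : Type*} (U : ι → X.Opens) (hU : TopologicalSpace.IsOpenCover U)
    (h : ∀ i, BlowUp.IsBlowUp (b ∣_ U i) (I.comap (U i).ι)) : BlowUp.IsBlowUp b I := by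
  have hext : ∀ {Y : Scheme.{u}} (k k' : Y ⟶ X'), k ≫ b = k' ≫ b →
      BlowUp.IsEffCartierIdeal (I.comap (k ≫ b)) → k = k' := by
    intro Y k k' w hk
    refine (Y.openCoverOfIsOpenCover (fun i ↦ (k ≫ b) ⁻¹ᵁ U i) (hU.comap (k ≫ b).base.hom)).hom_ext _ _
      fun i ↦ ?_
    show ((k ≫ b) ⁻¹ᵁ U i).ι ≫ k = ((k ≫ b) ⁻¹ᵁ U i).ι ≫ k'
    set O := (k ≫ b) ⁻¹ᵁ U i
    have hP := isPullback_morphismRestrict b (U i)
    let l := hP.lift ((k ≫ b) ∣_ U i) (O.ι ≫ k) (by rw [morphismRestrict_ι, Category.assoc])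
    let l' := hP.lift ((k ≫ b) ∣_ U i) (O.ι ≫ k') ((morphismRestrict_ι (k ≫ b) (U i)).trans ((congrArg (O.ι ≫ ·) w).trans (Category.assoc _ _ _).symm))
    have hl : l = l' := by
      refine hom_ext_isBlowUp (h i) ((hP.lift_fst _ _ _).trans (hP.lift_fst _ _ _).symm) ?_
      rw [show l ≫ b ∣_ U i = (k ≫ b) ∣_ U i from hP.lift_fst _ _ _,
        ← Scheme.IdealSheafData.comap_comp, morphismRestrict_ι, Scheme.IdealSheafData.comap_comp]
      exact isEffCartierIdeal_comap_of_flat _ hk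
    calc O.ι ≫ k = l ≫ (b ⁻¹ᵁ U i).ι := (hP.lift_snd _ _ _).symm
      _ = l' ≫ (b ⁻¹ᵁ U i).ι := by rw [hl]
      _ = O.ι ≫ k' := hP.lift_snd _ _ _
  refine ⟨?_, fun Y g hg ↦ ?_⟩
  · refine isEffCartierIdeal_of_openCover
      (X'.openCoverOfIsOpenCover (fun i ↦ b ⁻¹ᵁ U i) (hU.comap b.base.hom)) fun i ↦ ?_
    show BlowUp.IsEffCartierIdeal ((I.comap b).comap (b ⁻¹ᵁ U i).ι)
    rw [← Scheme.IdealSheafData.comap_comp, ← morphismRestrict_ι, Scheme.IdealSheafData.comap_comp]
    exact (h i).1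
  · let 𝒰 : Y.OpenCover := Y.openCoverOfIsOpenCover (fun i ↦ g ⁻¹ᵁ U i) (hU.comap g.base.hom)
    have loc : ∀ i : 𝒰.I₀, ∃ k : 𝒰.X i ⟶ X', k ≫ b = 𝒰.f i ≫ g := by
      intro i
      obtain ⟨k, hk, -⟩ := (h i).2 _ (g ∣_ U i) (by
        rw [← Scheme.IdealSheafData.comap_comp, morphismRestrict_ι, Scheme.IdealSheafData.comap_comp]
        exact isEffCartierIdeal_comap_of_flat _ hg)
      refine ⟨k ≫ (b ⁻¹ᵁ U i).ι, ?_⟩
      show (k ≫ (b ⁻¹ᵁ U i).ι) ≫ b = (g ⁻¹ᵁ U i).ι ≫ g
      rw [Category.assoc, ← morphismRestrict_ι, ← Category.assoc, hk, morphismRestrict_ι]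
    choose k hk using loc
    have hc : ∀ i j, pullback.fst (𝒰.f i) (𝒰.f j) ≫ k i = pullback.snd _ _ ≫ k j := by
      intro i j
      refine hext _ _ ?_ ?_
      · rw [Category.assoc, Category.assoc, hk, hk]
        exact pullback.condition_assoc g
      · rw [Category.assoc, hk, ← Category.assoc, Scheme.IdealSheafData.comap_comp]
        exact isEffCartierIdeal_comap_of_flat (pullback.fst (𝒰.f i) (𝒰.f j) ≫ 𝒰.f i) hg
    refine ⟨𝒰.glueMorphisms k hc, ?_, fun k' hk' ↦ ?_⟩
    · refine 𝒰.hom_ext _ _ fun i ↦ ?_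
      rw [← Category.assoc, Scheme.Cover.ι_glueMorphisms]
      exact hk i
    · refine hext _ _ ?_ (by rw [hk']; exact hg)
      rw [hk']
      refine 𝒰.hom_ext _ _ fun i ↦ ?_
      rw [← Category.assoc _ (𝒰.glueMorphisms k hc), Scheme.Cover.ι_glueMorphisms]
      exact (hk i).symm

lemma sheafOf_surjective {A : Type u} [CommRing A] (J : (Spec (CommRingCat.of A)).IdealSheafData) :
    ∃ K : Ideal A, sheafOf K = J := by
  refine ⟨(J.ideal ⟨⊤, isAffineOpen_top _⟩).comap (Scheme.ΓSpecIso (CommRingCat.of A)).inv.hom, ?_⟩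
  refine Scheme.IdealSheafData.ext_of_isAffine ?_
  rw [sheafOf_ideal_top]
  exact Ideal.map_comap_of_surjective (Scheme.ΓSpecIso (CommRingCat.of A)).inv.hom
    (ConcreteCategory.bijective_of_isIso (Scheme.ΓSpecIso (CommRingCat.of A)).inv).2 _

theorem exists_isBlowUp_of_isAffine (Z : Scheme.{u}) [IsAffine Z] (J : Z.IdealSheafData) :
    ∃ (Z' : Scheme.{u}) (p : Z' ⟶ Z), BlowUp.IsBlowUp p J := by
  obtain ⟨K, hK⟩ := sheafOf_surjective (A := Γ(Z, ⊤)) (J.comap Z.isoSpec.inv)
  have h0 := hK ▸ isBlowUp_projBase K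
  refine ⟨_, pullback.fst Z.isoSpec.hom (projBase K), ?_⟩
  have h := Groth.Divisors.isBlowUp_flat_pullback Z.isoSpec.hom h0
  rwa [← Scheme.IdealSheafData.comap_comp, Iso.hom_inv_id, Scheme.IdealSheafData.comap_id] at h

variable (I) in
private noncomputable def locTot (U : X.affineOpens) : Scheme.{u} :=
  haveI : IsAffine U.1.toScheme := U.2
  (exists_isBlowUp_of_isAffine U.1.toScheme (I.comap U.1.ι)).choose

variable (I) in
private noncomputable def locMap (U : X.affineOpens) : locTot I U ⟶ U.1.toScheme :=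
  haveI : IsAffine U.1.toScheme := U.2
  (exists_isBlowUp_of_isAffine U.1.toScheme (I.comap U.1.ι)).choose_spec.choose

private lemma isBlowUp_locMap (U : X.affineOpens) : BlowUp.IsBlowUp (locMap I U) (I.comap U.1.ι) :=
  haveI : IsAffine U.1.toScheme := U.2
  (exists_isBlowUp_of_isAffine U.1.toScheme (I.comap U.1.ι)).choose_spec.choose_spec

private lemma isEffCartier_locMap_comp {U V : X.affineOpens} (h : U ≤ V) :
    BlowUp.IsEffCartierIdeal ((I.comap V.1.ι).comap (locMap I U ≫ X.homOfLE h)) := by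
  rw [← Scheme.IdealSheafData.comap_comp, Category.assoc, Scheme.homOfLE_ι,
    Scheme.IdealSheafData.comap_comp]
  exact (isBlowUp_locMap U).1

private noncomputable def locTrans {U V : X.affineOpens} (h : U ≤ V) : locTot I U ⟶ locTot I V :=
  ((isBlowUp_locMap (I := I) V).2 _ (locMap I U ≫ X.homOfLE h) (isEffCartier_locMap_comp h)).choose

private lemma locTrans_fac {U V : X.affineOpens} (h : U ≤ V) :
    locTrans (I := I) h ≫ locMap I V = locMap I U ≫ X.homOfLE h :=
  ((isBlowUp_locMap (I := I) V).2 _ (locMap I U ≫ X.homOfLE h) (isEffCartier_locMap_comp h)).choose_spec.1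

private lemma locTrans_unique {U V : X.affineOpens} (h : U ≤ V) (k : locTot I U ⟶ locTot I V)
    (hk : k ≫ locMap I V = locMap I U ≫ X.homOfLE h) : k = locTrans h :=
  ((isBlowUp_locMap (I := I) V).2 _ (locMap I U ≫ X.homOfLE h) (isEffCartier_locMap_comp h)).choose_spec.2 k hk

private lemma isPullback_locTrans {U V : X.affineOpens} (h : U ≤ V) :
    IsPullback (locMap I U) (locTrans h) (X.homOfLE h) (locMap I V) := by
  have h1 : BlowUp.IsBlowUp (pullback.fst (X.homOfLE h) (locMap I V)) (I.comap U.1.ι) := by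
    have := Groth.Divisors.isBlowUp_flat_pullback (X.homOfLE h) (isBlowUp_locMap (I := I) V)
    rwa [← Scheme.IdealSheafData.comap_comp, Scheme.homOfLE_ι] at this
  obtain ⟨e, he⟩ := exists_iso_of_isBlowUp (isBlowUp_locMap U) h1
  have : locTrans h = e.hom ≫ pullback.snd _ _ := by
    refine (locTrans_unique h _ ?_).symm
    rw [Category.assoc, ← pullback.condition, ← Category.assoc, he]
  rw [this]
  refine IsPullback.of_iso (IsPullback.of_hasPullback (X.homOfLE h) (locMap I V)) e.symm (Iso.refl _)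
    (Iso.refl _) (Iso.refl _) ?_ ?_ ?_ ?_ <;> simp [← he]

private lemma locTrans_comp {U V W : X.affineOpens} (h : U ≤ V) (h' : V ≤ W) :
    locTrans (I := I) (h.trans h') = locTrans h ≫ locTrans h' :=
  (locTrans_unique _ _ (by
    rw [Category.assoc, locTrans_fac, ← Category.assoc, locTrans_fac, Category.assoc,
      Scheme.homOfLE_homOfLE])).symm

variable (I) in
private noncomputable def gluingData : X.directedAffineCover.RelativeGluingData where
  functor :=
    { obj := fun U ↦ locTot I U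
      map := fun {U V} f ↦ locTrans f.le
      map_id := fun U ↦ (locTrans_unique _ _ (by simp)).symm
      map_comp := fun f g ↦ locTrans_comp f.le g.le }
  natTrans :=
    { app := fun U ↦ locMap I U
      naturality := fun U V f ↦ locTrans_fac f.le }
  equifibered := fun U V f ↦ (isPullback_locTrans f.le).flip

/-- Blow-ups exist. -/
theorem exists_isBlowUp (X : Scheme.{u}) (I : X.IdealSheafData) :
    ∃ (X' : Scheme.{u}) (b : X' ⟶ X), BlowUp.IsBlowUp b I := by
  let d := gluingData I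
  refine ⟨d.glued, d.toBase, isBlowUp_of_cover (fun U : X.affineOpens ↦ U.1)
    (iSup_affineOpens_eq_top X) fun U ↦ ?_⟩
  have H : IsPullback (locMap I U) (colimit.ι d.functor U) U.1.ι d.toBase :=
    d.isPullback_natTrans_ι_toBase U
  have H' := isPullback_morphismRestrict d.toBase U.1
  rw [← H'.isoIsPullback_hom_fst _ _ H]
  exact isBlowUp_iso_source (isBlowUp_locMap U) (H'.isoIsPullback _ _ H)

end Groth.BlowUpBasics
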