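import Groth.Agent.BlowUpBasics.IdealComap
import Groth.Agent.Divisors.EffCartier
import Mathlib.RingTheory.Localization.Finiteness

/-!
# Dividing an ideal sheaf by an effective Cartier ideal
-/

set_option autoImplicit false
universe u

open CategoryTheory AlgebraicGeometry

namespace Groth.BlowUpBasics

variable {X : Scheme.{u}}

lemma fg_of_isEffCartierIdeal {K : X.IdealSheafData} (hK : BlowUp.IsEffCartierIdeal K) (U : X.affineOpens) :
    (K.ideal U).FG := by
  refine Ideal.fg_of_localizationSpan
    {g : Γ(X, U.1) | (K.ideal (X.affineBasicOpen g)).FG} ?_ ?_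
  · rw [← U.2.self_le_iSup_basicOpen_iff]
    intro x hx
    obtain ⟨W, hxW, hWU, t, -, ht⟩ := Groth.Divisors.exists_generator hK x U.1 hx
    obtain ⟨g, hgW, hxg⟩ := U.2.exists_basicOpen_le ⟨x, hxW⟩ hx
    refine TopologicalSpace.Opens.mem_iSup.mpr ⟨⟨g, ?_⟩, hxg⟩
    show (K.ideal (X.affineBasicOpen g)).FG
    rw [← K.map_ideal (U := X.affineBasicOpen g) (V := W) hgW, ht, Ideal.map_span, Set.image_singleton]
    exact Submodule.fg_span_singleton _
  · rintro ⟨g, hg⟩
    have := U.2.isLocalization_basicOpen g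
    let e := IsLocalization.algEquiv (Submonoid.powers g) Γ(X, X.basicOpen g) (Localization.Away g)
    have h := Ideal.FG.map (f := e.toRingEquiv.toRingHom) hg
    rw [← K.map_ideal_basicOpen U g] at h
    erw [Ideal.map_map] at h
    convert h using 2
    ext r
    exact (e.commutes r).symm

lemma map_colon_of_fg {R S : Type*} [CommRing R] [CommRing S] [Algebra R S] (M : Submonoid R)
    [IsLocalization M S] (J K : Ideal R) (hK : K.FG) :
    (J.colon (K : Set R)).map (algebraMap R S) = (J.map (algebraMap R S)).colon ((K.map (algebraMap R S) : Ideal S) : Set S) := by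
  refine le_antisymm (Ideal.map_le_iff_le_comap.mpr fun r hr => ?_) fun z hz => ?_
  · rw [Ideal.mem_comap, Submodule.mem_colon]
    intro k hk
    have hle : K.map (algebraMap R S) ≤ (J.map (algebraMap R S)).colon {algebraMap R S r} := by
      refine Ideal.map_le_iff_le_comap.mpr fun k hk => ?_
      rw [Ideal.mem_comap, Submodule.mem_colon_singleton, smul_eq_mul, ← map_mul]
      refine Ideal.mem_map_of_mem _ ?_
      rw [mul_comm]
      exact Submodule.mem_colon.mp hr k hk
    have h1 := Submodule.mem_colon_singleton.mp (hle hk)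
    rwa [smul_eq_mul, mul_comm] at h1
  · obtain ⟨c, s, rfl⟩ := IsLocalization.exists_mk'_eq M z
    obtain ⟨T, hT⟩ := hK
    rw [IsLocalization.mk'_mem_map_algebraMap_iff]
    have key : ∀ k ∈ T, ∃ m ∈ M, m * (c * k) ∈ J := by
      intro k hk
      have h1 := Submodule.mem_colon.mp hz (algebraMap R S k)
        (Ideal.mem_map_of_mem _ (hT ▸ Ideal.subset_span hk))
      rw [smul_eq_mul, mul_comm, IsLocalization.mul_mk'_eq_mk'_of_mul, IsLocalization.mk'_mem_map_algebraMap_iff] at h1
      obtain ⟨m, hm, hm'⟩ := h1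
      exact ⟨m, hm, by rwa [mul_comm c k]⟩
    choose! m hm hm' using key
    refine ⟨∏ k ∈ T, m k, M.prod_mem hm, Submodule.mem_colon.mpr ?_⟩
    intro k hk
    have hle : K ≤ J.colon {(∏ j ∈ T, m j) * c} := by
      rw [← hT, Ideal.span_le]
      intro k hk
      rw [SetLike.mem_coe, Submodule.mem_colon_singleton, smul_eq_mul]
      obtain ⟨q, hq⟩ := Finset.dvd_prod_of_mem m hk
      rw [hq, show k * (m k * q * c) = q * (m k * (c * k)) by ring]
      exact Ideal.mul_mem_left _ _ (hm' k hk)
    have h1 := Submodule.mem_colon_singleton.mp (hle hk)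
    rwa [smul_eq_mul, mul_comm] at h1

/-- The quotient `(J : K)` of ideal sheaves, `K` effective Cartier. -/
noncomputable def divIdeal (J : X.IdealSheafData) {K : X.IdealSheafData} (hK : BlowUp.IsEffCartierIdeal K) :
    X.IdealSheafData where
  ideal U := (J.ideal U).colon ((K.ideal U : Ideal Γ(X, U.1)) : Set Γ(X, U.1))
  map_ideal_basicOpen U g := by
    have := U.2.isLocalization_basicOpen g
    rw [← J.map_ideal_basicOpen U g, ← K.map_ideal_basicOpen U g]
    exact map_colon_of_fg (Submonoid.powers g) _ _ (fg_of_isEffCartierIdeal hK U)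

lemma divIdeal_mul {J K : X.IdealSheafData} (hK : BlowUp.IsEffCartierIdeal K) (hJK : J ≤ K) :
    divIdeal J hK * K = J := by
  refine Groth.Divisors.ext_of_cover fun x => ?_
  obtain ⟨W, hxW, t, -, ht⟩ := hK x
  refine ⟨W, hxW, ?_⟩
  rw [Scheme.IdealSheafData.ideal_mul, Pi.mul_apply]
  refine le_antisymm (Ideal.mul_le.mpr fun r hr k hk => Submodule.mem_colon.mp hr k hk) fun c hc => ?_
  obtain ⟨d, rfl⟩ := Ideal.mem_span_singleton'.mp (ht.le (hJK W hc))
  refine Ideal.mul_mem_mul ?_ (ht.ge (Ideal.mem_span_singleton_self t))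
  refine Submodule.mem_colon.mpr fun k hk => ?_
  obtain ⟨e, rfl⟩ := Ideal.mem_span_singleton'.mp (ht.le hk)
  rw [smul_eq_mul, mul_left_comm]
  exact Ideal.mul_mem_left _ _ hc

/-- An ideal sheaf inside an effective Cartier ideal is a multiple of it. -/
theorem exists_eq_mul_of_le {J K : X.IdealSheafData} (hK : BlowUp.IsEffCartierIdeal K) (hJK : J ≤ K) :
    ∃ L, J = L * K :=
  ⟨divIdeal J hK, (divIdeal_mul hK hJK).symm⟩

end Groth.BlowUpBasics
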