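import Groth.Agent.BlowUpBasics.Global

/-!
# Every blow-up of an affine scheme carries the atlas of affine blow-up algebras
-/

set_option autoImplicit false
universe u

open CategoryTheory AlgebraicGeometry Limits

namespace Groth.BlowUpBasics

variable {A : Type u} [CommRing A] {I : Ideal A} {X X' : Scheme.{u}}

/-- Transport an atlas along an isomorphism of the total spaces. -/
noncomputable def Atlas.ofIso {b : X' ⟶ Spec (CommRingCat.of A)} (T : Atlas I b) {c : X ⟶ Spec (CommRingCat.of A)}
    (e : X ≅ X') (he : e.hom ≫ b = c) : Atlas I c where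
  j a := T.j a ≫ e.inv
  isOpenImmersion _ := inferInstance
  fac a := by rw [← he, Category.assoc, Iso.inv_hom_id_assoc, T.fac]
  covers x := by
    obtain ⟨a, y, hy⟩ := T.covers (e.hom x)
    refine ⟨a, y, ?_⟩
    rw [Scheme.Hom.comp_apply, hy, ← Scheme.Hom.comp_apply, Iso.hom_inv_id]
    rfl
  overlap a a' y hy := by
    obtain ⟨z, hz⟩ := T.overlap a a' y hy
    exact ⟨z, by rw [Scheme.Hom.comp_apply, hz]; rfl⟩

/-- Every blow-up of `Spec A` in `I` has an atlas by the `Spec A[I/a]`. -/
theorem nonempty_atlas_of_isBlowUp {b : X ⟶ Spec (CommRingCat.of A)} (hb : BlowUp.IsBlowUp b (sheafOf I)) :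
    Nonempty (Atlas I b) := by
  obtain ⟨e, he⟩ := exists_iso_of_isBlowUp hb (isBlowUp_projBase I)
  exact ⟨(projAtlas I).ofIso e he⟩

end Groth.BlowUpBasics
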