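import Groth.Agent.BlowUpBasics.Global

/-!
# The dictionary between ideals of `A` and ideal sheaves on `Spec A`
-/

set_option autoImplicit false
universe u

open CategoryTheory AlgebraicGeometry

namespace Groth.BlowUpBasics

variable {A B : Type u} [CommRing A] [CommRing B]

lemma sheafOf_le_iff {I J : Ideal A} : sheafOf I ≤ sheafOf J ↔ I ≤ J := by
  have key : sheafOf I ≤ sheafOf J ↔
      I.map (Scheme.ΓSpecIso (CommRingCat.of A)).inv.hom ≤ J.map (Scheme.ΓSpecIso (CommRingCat.of A)).inv.hom := by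
    rw [← sheafOf_ideal_top, ← sheafOf_ideal_top]
    exact ⟨fun h => h _, Scheme.IdealSheafData.le_of_isAffine⟩
  rw [key]
  refine ⟨fun h => ?_, fun h => Ideal.map_mono h⟩
  have hbij : Function.Bijective (Scheme.ΓSpecIso (CommRingCat.of A)).inv.hom :=
    ConcreteCategory.bijective_of_isIso (Scheme.ΓSpecIso (CommRingCat.of A)).inv
  have := Ideal.comap_mono (f := (Scheme.ΓSpecIso (CommRingCat.of A)).inv.hom) h
  rwa [Ideal.comap_map_of_bijective _ hbij, Ideal.comap_map_of_bijective _ hbij] at this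

lemma sheafOf_injective : Function.Injective (sheafOf (A := A)) := fun _ _ h =>
  le_antisymm (sheafOf_le_iff.mp h.le) (sheafOf_le_iff.mp h.ge)

lemma sheafOf_mul (I J : Ideal A) : sheafOf (I * J) = sheafOf I * sheafOf J := by
  refine Scheme.IdealSheafData.ext_of_isAffine ?_
  rw [Scheme.IdealSheafData.ideal_mul, Pi.mul_apply, sheafOf_ideal_top, sheafOf_ideal_top, sheafOf_ideal_top,
    Ideal.map_mul]

lemma sheafOf_pow (I : Ideal A) (n : ℕ) : sheafOf (I ^ n) = sheafOf I ^ n := by
  refine Scheme.IdealSheafData.ext_of_isAffine ?_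
  rw [Scheme.IdealSheafData.ideal_pow, Pi.pow_apply, sheafOf_ideal_top, sheafOf_ideal_top, Ideal.map_pow]

lemma comap_sheafOf_Spec (φ : A →+* B) (I : Ideal A) :
    (sheafOf I).comap (Spec.map (CommRingCat.ofHom φ)) = sheafOf (I.map φ) := by
  refine Scheme.IdealSheafData.ext_of_isAffine ?_
  rw [ideal_comap_sheafOf, phi_Spec, sheafOf_ideal_top, Ideal.map_map]

lemma mem_support_sheafOf (I : Ideal A) (x : Spec (CommRingCat.of A)) :
    x ∈ (sheafOf I).support ↔ I ≤ (x : PrimeSpectrum A).asIdeal := by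
  rw [Scheme.IdealSheafData.mem_support_iff_of_mem (U := ⟨⊤, isAffineOpen_top _⟩) trivial, sheafOf_ideal_top]
  constructor
  · intro h a ha
    by_contra hne
    refine (Scheme.mem_zeroLocus_iff _ _ _).mp h _ (Ideal.mem_map_of_mem _ ha) ?_
    rw [basicOpen_eq_of_affine]
    exact hne
  · intro h
    rw [Scheme.mem_zeroLocus_iff]
    intro s hs
    obtain ⟨a, ha, rfl⟩ := (Ideal.mem_map_iff_of_surjective _
      (ConcreteCategory.bijective_of_isIso (Scheme.ΓSpecIso (CommRingCat.of A)).inv).2).mp hs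
    rw [basicOpen_eq_of_affine]
    exact fun hne => hne (h ha)

lemma isEffCartierIdeal_sheafOf_span {a : A} (ha : a ∈ nonZeroDivisors A) :
    BlowUp.IsEffCartierIdeal (sheafOf (Ideal.span {a})) := fun _ =>
  ⟨⟨⊤, isAffineOpen_top _⟩, trivial, (Scheme.ΓSpecIso (CommRingCat.of A)).inv.hom a,
    map_mem_nonZeroDivisors_of_flat (RingHom.Flat.of_bijective
      (Scheme.ΓSpecIso (CommRingCat.of A)).symm.commRingCatIsoToRingEquiv.bijective) ha,
    by rw [sheafOf_ideal_top, Ideal.map_span, Set.image_singleton]⟩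

end Groth.BlowUpBasics
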