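import Groth.Agent.BlowUpBasics.EffCartier
import Mathlib.AlgebraicGeometry.Morphisms.SchemeTheoreticallyDominant

/-!
# Consequences of the universal property of blowing up
-/

set_option autoImplicit false
universe u

open CategoryTheory AlgebraicGeometry Limits

namespace Groth.BlowUpBasics

variable {X X' X'' Y : Scheme.{u}} {b : X' ⟶ X} {I : X.IdealSheafData}

lemma isEffCartierIdeal_top : BlowUp.IsEffCartierIdeal (⊤ : X.IdealSheafData) := by
  intro x
  obtain ⟨_, ⟨U, hU, rfl⟩, hxU, -⟩ :=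
    X.isBasis_affineOpens.exists_subset_of_mem_open (Set.mem_univ x) isOpen_univ
  exact ⟨⟨U, hU⟩, hxU, 1, one_mem _, by simp⟩

lemma comap_eq_top_of_range_subset (g : Y ⟶ X) (I : X.IdealSheafData)
    (h : Set.range g ⊆ (I.support : Set X)ᶜ) : I.comap g = ⊤ := by
  rw [← Scheme.IdealSheafData.support_eq_bot_iff, Scheme.IdealSheafData.support_comap]
  ext y
  simpa using h ⟨y, rfl⟩

/-- Two morphisms into a blow-up agreeing on the base are equal if the centre pulls back to an
effective Cartier divisor. -/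
lemma hom_ext_isBlowUp (hb : BlowUp.IsBlowUp b I) {g h : Y ⟶ X'} (w : g ≫ b = h ≫ b)
    (hC : BlowUp.IsEffCartierIdeal (I.comap (g ≫ b))) : g = h :=
  (hb.2 Y (g ≫ b) hC).unique rfl w.symm

/-- A blow-up is an isomorphism over every open subscheme missing the centre. -/
theorem isIso_morphismRestrict (hb : BlowUp.IsBlowUp b I) (U : X.Opens)
    (hU : Disjoint (I.support : Set X) (U : Set X)) : IsIso (b ∣_ U) := by
  have hr : Set.range U.ι ⊆ (I.support : Set X)ᶜ := by
    rw [Scheme.Opens.range_ι]; exact hU.symm.le_compl_right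
  have hc : BlowUp.IsEffCartierIdeal (I.comap U.ι) := by
    rw [comap_eq_top_of_range_subset _ _ hr]; exact isEffCartierIdeal_top
  obtain ⟨h, hh, -⟩ := hb.2 _ U.ι hc
  have hle : Set.range h ⊆ (b ⁻¹ᵁ U : X'.Opens) := by
    rintro _ ⟨y, rfl⟩
    have : b (h y) = U.ι y := by rw [← Scheme.Hom.comp_apply, hh]
    show b (h y) ∈ U
    rw [this]; exact y.2
  let g := IsOpenImmersion.lift (b ⁻¹ᵁ U).ι h (by simpa using hle)
  have hg : g ≫ (b ⁻¹ᵁ U).ι = h := IsOpenImmersion.lift_fac _ _ _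
  refine ⟨g, ?_, ?_⟩
  · rw [← cancel_mono (b ⁻¹ᵁ U).ι, Category.assoc, hg, Category.id_comp]
    refine hom_ext_isBlowUp hb ?_ ?_
    · rw [Category.assoc, hh, morphismRestrict_ι]
    · rw [Category.assoc, hh, comap_eq_top_of_range_subset _ _]
      · exact isEffCartierIdeal_top
      · rintro _ ⟨y, rfl⟩
        exact hr ⟨(b ∣_ U) y, rfl⟩
  · rw [← cancel_mono U.ι, Category.assoc, morphismRestrict_ι, ← Category.assoc, hg, hh,
      Category.id_comp]

/-- Blow-ups are unique up to isomorphism. -/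
theorem exists_iso_of_isBlowUp {b' : X'' ⟶ X} (hb : BlowUp.IsBlowUp b I)
    (hb' : BlowUp.IsBlowUp b' I) : ∃ e : X' ≅ X'', e.hom ≫ b' = b := by
  obtain ⟨f, hf, -⟩ := hb'.2 X' b hb.1
  obtain ⟨g, hg, -⟩ := hb.2 X'' b' hb'.1
  refine ⟨⟨f, g, hom_ext_isBlowUp hb (by simp [hg, hf]) ?_,
    hom_ext_isBlowUp hb' (by simp [hg, hf]) ?_⟩, hf⟩
  · rw [Category.assoc, hg, hf]; exact hb.1
  · rw [Category.assoc, hf, hg]; exact hb'.1

/-- The complement of an effective Cartier divisor is scheme-theoretically dense. -/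
theorem isSchemeTheoreticallyDominant_compl {J : X.IdealSheafData}
    (hJ : BlowUp.IsEffCartierIdeal J) : IsSchemeTheoreticallyDominant (Scheme.Opens.ι (X := X) J.support.compl) := by
  refine ⟨?_⟩
  choose U hxU f hf hfI using hJ
  refine Scheme.IdealSheafData.ext_of_iSup_eq_top (fun x : X ↦ U x) ?_ fun x ↦ ?_
  · exact top_le_iff.mp fun x _ ↦ TopologicalSpace.Opens.mem_iSup.mpr ⟨x, hxU x⟩
  rw [Scheme.IdealSheafData.ideal_bot, Pi.bot_apply, eq_bot_iff]
  intro a ha
  have ha' : ((Scheme.Opens.ι (X := X) J.support.compl).app (U x).1).hom a = 0 := Scheme.Hom.ideal_ker_le _ _ ha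
  have hle : X.basicOpen (f x) ≤ (Scheme.Opens.ι (X := X) J.support.compl) ''ᵁ ((Scheme.Opens.ι (X := X) J.support.compl) ⁻¹ᵁ (U x).1) := by
    intro y hy
    have hyU : y ∈ (U x).1 := X.basicOpen_le _ hy
    have : y ∉ J.support := fun hyJ ↦ by
      have h := (Scheme.IdealSheafData.mem_support_iff_of_mem hyU).mp hyJ
      rw [hfI x, Scheme.zeroLocus_span] at h
      exact (Scheme.mem_zeroLocus_iff X _ y).mp h _ rfl hy
    exact ⟨⟨y, this⟩, hyU, rfl⟩
  have h0 : (X.presheaf.map (homOfLE (X.basicOpen_le (f x))).op).hom a = 0 := by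
    have hle' : Scheme.Opens.ι (X := X) J.support.compl ''ᵁ
        (Scheme.Opens.ι (X := X) J.support.compl ⁻¹ᵁ (U x).1) ≤ (U x).1 :=
      (Scheme.Opens.ι (X := X) J.support.compl).image_preimage_le (U x).1
    have h1 : (X.presheaf.map (homOfLE hle').op).hom a = 0 := by
      rw [Scheme.Opens.ι_app] at ha'; exact ha'
    have h2 := congrArg (X.presheaf.map (homOfLE hle).op).hom h1
    rw [map_zero, ← RingHom.comp_apply, ← CommRingCat.hom_comp, ← Functor.map_comp] at h2
    exact h2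
  haveI := (U x).2.isLocalization_basicOpen (f x)
  obtain ⟨⟨_, n, rfl⟩, hn⟩ := (IsLocalization.map_eq_zero_iff (Submonoid.powers (f x))
    Γ(X, X.basicOpen (f x)) a).mp (by simpa [RingHom.algebraMap_toAlgebra] using h0)
  exact (pow_mem (hf x) n).1 a hn

/-- The preimage of a scheme-theoretically dense open missing the centre is scheme-theoretically
dense in the blow-up. -/
theorem isSchemeTheoreticallyDominant_preimage (hb : BlowUp.IsBlowUp b I) (U : X.Opens)
    [QuasiCompact U.ι] [IsSchemeTheoreticallyDominant U.ι]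
    (hU : Disjoint (I.support : Set X) (U : Set X)) :
    IsSchemeTheoreticallyDominant (b ⁻¹ᵁ U).ι := by
  set O : X.Opens := I.support.compl
  have hO : b ⁻¹ᵁ O = ((I.comap b).support.compl : X'.Opens) := by
    ext y; simp [O, TopologicalSpace.Closeds.compl]
  haveI h1 : IsSchemeTheoreticallyDominant (b ⁻¹ᵁ O).ι := by
    rw [hO]; exact isSchemeTheoreticallyDominant_compl hb.1
  haveI := isIso_morphismRestrict hb O disjoint_compl_right
  have hUO : U ≤ O := fun x hx ↦ fun hxI ↦ hU.le_bot ⟨hxI, hx⟩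
  have e : b ⁻¹ᵁ U ≤ b ⁻¹ᵁ O := fun y hy ↦ hUO hy
  have hflip := (isPullback_morphismRestrict b U)
  have H : IsPullback (b ∣_ U) (X'.homOfLE e) U.ι ((b ⁻¹ᵁ O).ι ≫ b) :=
    ⟨⟨by simp [morphismRestrict_ι, ← Category.assoc]⟩, ⟨PullbackCone.IsLimit.mk _
      (fun s ↦ hflip.lift s.fst (s.snd ≫ (b ⁻¹ᵁ O).ι) (by simpa using s.condition))
      (fun s ↦ hflip.lift_fst _ _ _)
      (fun s ↦ by rw [← cancel_mono (b ⁻¹ᵁ O).ι]; simp)
      (fun s m h₁ h₂ ↦ by rw [← cancel_mono (b ⁻¹ᵁ U).ι]; simp [← h₂])⟩⟩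
  haveI : Flat ((b ⁻¹ᵁ O).ι ≫ b) := by rw [← morphismRestrict_ι]; infer_instance
  haveI := IsSchemeTheoreticallyDominant.of_isPullback H
  rw [← Scheme.homOfLE_ι X' e]
  infer_instance

end Groth.BlowUpBasics
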