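import Groth.Prelude.Def_BlowUp2
import Mathlib.RingTheory.Localization.Away.Basic

/-!
# Affine blow-up algebras `A[I/a]`
-/

set_option autoImplicit false
universe u

namespace Groth.BlowUpBasics

variable {A : Type u} [CommRing A] {I : Ideal A} {a : A}

local notation "C" => BlowUp.affineAlgebra A I a

variable (I a) in
/-- The fraction `x / a` in `A[I/a]`. -/
noncomputable def frac (x : A) (hx : x ∈ I) : BlowUp.affineAlgebra A I a :=
  ⟨IsLocalization.mk' (Localization.Away a) x ⟨a, Submonoid.mem_powers a⟩,
    Algebra.subset_adjoin ⟨x, hx, rfl⟩⟩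

@[simp] lemma coe_frac (x : A) (hx : x ∈ I) :
    ((frac I a x hx : C) : Localization.Away a) =
      IsLocalization.mk' (Localization.Away a) x ⟨a, Submonoid.mem_powers a⟩ := rfl

lemma frac_mul_algebraMap (x : A) (hx : x ∈ I) :
    frac I a x hx * algebraMap A C a = algebraMap A C x := by
  apply Subtype.ext
  simp [IsLocalization.mk'_spec]

lemma algebraMap_self_mem_nonZeroDivisors : algebraMap A C a ∈ nonZeroDivisors C := by
  rw [mem_nonZeroDivisors_iff_right]
  intro x hx
  apply Subtype.ext
  have h : (x : Localization.Away a) * algebraMap A (Localization.Away a) a = 0 := by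
    simpa using congrArg Subtype.val hx
  exact (IsLocalization.Away.algebraMap_isUnit (S := Localization.Away a) a).mul_left_eq_zero.mp h

lemma map_eq_span (ha : a ∈ I) : I.map (algebraMap A C) = Ideal.span {algebraMap A C a} := by
  refine le_antisymm (Ideal.map_le_iff_le_comap.mpr fun x hx ↦ ?_) ?_
  · rw [Ideal.mem_comap, Ideal.mem_span_singleton']
    exact ⟨frac I a x hx, frac_mul_algebraMap x hx⟩
  · rw [Ideal.span_singleton_le_iff_mem]
    exact Ideal.mem_map_of_mem _ ha

variable {R : Type u} [CommRing R] [Algebra A R]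

lemma algHom_ext (hnzd : algebraMap A R a ∈ nonZeroDivisors R) (f g : C →ₐ[A] R) : f = g := by
  refine AlgHom.ext_of_adjoin_eq_top
    (s := {q : C | ∃ x, ∃ hx : x ∈ I, q = frac I a x hx}) ?_ ?_
  · apply Subalgebra.map_injective (f := (BlowUp.affineAlgebra A I a).val) Subtype.val_injective
    rw [AlgHom.map_adjoin, Algebra.map_top, Subalgebra.range_val]
    refine congrArg _ ?_
    ext q
    constructor
    · rintro ⟨_, ⟨x, hx, rfl⟩, rfl⟩; exact ⟨x, hx, rfl⟩
    · rintro ⟨x, hx, rfl⟩; exact ⟨_, ⟨x, hx, rfl⟩, rfl⟩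
  · rintro _ ⟨x, hx, rfl⟩
    refine (mul_cancel_right_mem_nonZeroDivisors hnzd).mp ?_
    rw [← f.commutes a, ← map_mul, frac_mul_algebraMap, f.commutes]
    rw [f.commutes a, ← g.commutes a, ← map_mul, frac_mul_algebraMap, g.commutes]

variable (a) in
/-- The comparison map from `A_a` to `R_a`. -/
noncomputable def toLocAway :
    Localization.Away a →ₐ[A] Localization.Away (algebraMap A R a) :=
  IsLocalization.liftAlgHom (M := Submonoid.powers a)
    (f := Algebra.ofId A (Localization.Away (algebraMap A R a))) (by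
      rintro ⟨_, n, rfl⟩
      simp only [Algebra.ofId_apply, map_pow]
      refine IsUnit.pow _ ?_
      rw [IsScalarTower.algebraMap_apply A R (Localization.Away (algebraMap A R a))]
      exact IsLocalization.Away.algebraMap_isUnit _)

theorem existsUnique_lift (hnzd : algebraMap A R a ∈ nonZeroDivisors R)
    (hI : I.map (algebraMap A R) ≤ Ideal.span {algebraMap A R a}) :
    ∃! f : C →ₐ[A] R, True := by
  let ι := IsScalarTower.toAlgHom A R (Localization.Away (algebraMap A R a))
  have hinj : Function.Injective ι :=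
    IsLocalization.injective (M := Submonoid.powers (algebraMap A R a))
      (Localization.Away (algebraMap A R a)) (Submonoid.powers_le.mpr hnzd)
  have hle : (BlowUp.affineAlgebra A I a).map (toLocAway (R := R) a) ≤ ι.range := by
    rw [BlowUp.affineAlgebra, AlgHom.map_adjoin, Algebra.adjoin_le_iff]
    rintro _ ⟨_, ⟨x, hx, rfl⟩, rfl⟩
    obtain ⟨c, hc⟩ := Ideal.mem_span_singleton'.mp (hI (Ideal.mem_map_of_mem _ hx))
    refine ⟨c, ?_⟩
    have hu : IsUnit (algebraMap A (Localization.Away (algebraMap A R a)) a) := by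
      rw [IsScalarTower.algebraMap_apply A R (Localization.Away (algebraMap A R a))]
      exact IsLocalization.Away.algebraMap_isUnit _
    refine hu.mul_left_injective ?_
    dsimp only
    rw [← (toLocAway (R := R) a).commutes a, ← map_mul, IsLocalization.mk'_spec,
      (toLocAway (R := R) a).commutes a, (toLocAway (R := R) a).commutes x]
    simp only [ι, IsScalarTower.coe_toAlgHom']
    rw [IsScalarTower.algebraMap_apply A R (Localization.Away (algebraMap A R a)) a,
      IsScalarTower.algebraMap_apply A R (Localization.Away (algebraMap A R a)) x, ← hc]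
    simp
  let e := AlgEquiv.ofInjective ι hinj
  let g : C →ₐ[A] ι.range :=
    ((toLocAway (R := R) a).comp (BlowUp.affineAlgebra A I a).val).codRestrict ι.range
      fun c ↦ hle ⟨c, c.2, rfl⟩
  exact ⟨(e.symm : ι.range →ₐ[A] R).comp g, trivial, fun f _ ↦ algHom_ext hnzd _ _⟩

/-- A ring map out of `A` making `a` a nonzerodivisor generating the image of `I` factors through
`A[I/a]`. -/
theorem exists_ringHom_lift {S : Type u} [CommRing S] (φ : A →+* S)
    (hnzd : φ a ∈ nonZeroDivisors S) (hI : I.map φ ≤ Ideal.span {φ a}) :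
    ∃ ψ : C →+* S, ψ.comp (algebraMap A C) = φ := by
  letI := φ.toAlgebra
  obtain ⟨f, -⟩ := existsUnique_lift (I := I) (R := S) hnzd hI
  exact ⟨f.toRingHom, f.comp_algebraMap⟩

theorem ringHom_ext {S : Type u} [CommRing S] {ψ ψ' : C →+* S}
    (h : ψ.comp (algebraMap A C) = ψ'.comp (algebraMap A C))
    (hnzd : ψ (algebraMap A C a) ∈ nonZeroDivisors S) : ψ = ψ' := by
  letI := (ψ.comp (algebraMap A C)).toAlgebra
  let f : C →ₐ[A] S := ⟨ψ, fun r ↦ rfl⟩
  let f' : C →ₐ[A] S := ⟨ψ', fun r ↦ (RingHom.congr_fun h r).symm⟩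
  exact congrArg AlgHom.toRingHom (algHom_ext (R := S) hnzd f f')

end Groth.BlowUpBasics
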