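import Groth.Agent.BlowUpBasics.EffCartier
import Mathlib.AlgebraicGeometry.AffineScheme

/-!
# Ideal sheaves of ideals of `A` pulled back along morphisms to `Spec A`
-/

set_option autoImplicit false
universe u

open CategoryTheory AlgebraicGeometry

namespace Groth.BlowUpBasics

variable {A : Type u} [CommRing A] {Y : Scheme.{u}}

/-- The quasi-coherent ideal sheaf on `Spec A` of an ideal. -/
noncomputable def sheafOf (I : Ideal A) : (Spec (CommRingCat.of A)).IdealSheafData :=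
  Scheme.IdealSheafData.ofIdealTop (I.map (Scheme.ΓSpecIso (CommRingCat.of A)).inv.hom)

lemma sheafOf_ideal_top (I : Ideal A) :
    (sheafOf I).ideal ⟨⊤, isAffineOpen_top _⟩ = I.map (Scheme.ΓSpecIso (CommRingCat.of A)).inv.hom := by
  simp [sheafOf]

lemma le_preimage_top {Z : Scheme.{u}} (g : Y ⟶ Z) (U : Y.Opens) : U ≤ g ⁻¹ᵁ (⊤ : Z.Opens) := le_top

/-- The ring map `A → Γ(Y, U)` of a morphism to `Spec A`. -/
noncomputable def phi (g : Y ⟶ Spec (CommRingCat.of A)) (U : Y.Opens) : A →+* Γ(Y, U) :=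
  ((Scheme.ΓSpecIso (CommRingCat.of A)).inv ≫ g.appLE ⊤ U (le_preimage_top g U)).hom

lemma phi_restrict (g : Y ⟶ Spec (CommRingCat.of A)) {U V : Y.Opens} (h : V ≤ U) :
    phi g V = (Y.presheaf.map (homOfLE h).op).hom.comp (phi g U) := by
  rw [phi, phi, ← CommRingCat.hom_comp, Category.assoc, Scheme.Hom.appLE_map]

lemma ideal_comap_sheafOf (g : Y ⟶ Spec (CommRingCat.of A)) (I : Ideal A) (U : Y.affineOpens) :
    ((sheafOf I).comap g).ideal U = I.map (phi g U.1) := by
  rw [ideal_comap g (sheafOf I) ⟨⊤, isAffineOpen_top _⟩ U (le_preimage_top g U.1), sheafOf_ideal_top, Ideal.map_map]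
  rfl

lemma fromSpec_comp (g : Y ⟶ Spec (CommRingCat.of A)) {U : Y.Opens} (hU : IsAffineOpen U) :
    hU.fromSpec ≫ g = Spec.map (CommRingCat.ofHom (phi g U)) := by
  rw [← IsAffineOpen.SpecMap_appLE_fromSpec g (isAffineOpen_top _) hU (le_preimage_top g U),
    IsAffineOpen.fromSpec_top, Scheme.isoSpec_Spec_inv, ← Spec.map_comp]
  rfl

lemma phi_Spec {S : Type u} [CommRing S] (φ : A →+* S) :
    phi (Spec.map (CommRingCat.ofHom φ)) ⊤ = ((Scheme.ΓSpecIso (CommRingCat.of S)).inv.hom).comp φ := by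
  rw [phi, Scheme.Hom.appLE]
  erw [CategoryTheory.Functor.map_id, Category.comp_id]
  exact congrArg CommRingCat.Hom.hom (Scheme.ΓSpecIso_inv_naturality (CommRingCat.ofHom φ)).symm

variable {I : Ideal A}

/-- If a nonzerodivisor `t` generates `I · R`, then near every prime some `φ a`, `a ∈ I`, does. -/
lemma span_multipliers_eq_top {R : Type u} [CommRing R] (φ : A →+* R) {t : R}
    (ht : t ∈ nonZeroDivisors R) (hI : I.map φ = Ideal.span {t}) :
    Ideal.span {d : R | ∃ a ∈ I, φ a = d * t} = ⊤ := by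
  set J := Ideal.span {d : R | ∃ a ∈ I, φ a = d * t}
  have key : ∀ y ∈ I.map φ, ∃ d ∈ J, y = d * t := by
    intro y hy
    induction hy using Submodule.span_induction with
    | mem y hy =>
      obtain ⟨a, ha, rfl⟩ := hy
      obtain ⟨d, hd⟩ := Ideal.mem_span_singleton'.mp (hI.le (Ideal.mem_map_of_mem φ ha))
      exact ⟨d, Ideal.subset_span ⟨a, ha, hd.symm⟩, hd.symm⟩
    | zero => exact ⟨0, J.zero_mem, by simp⟩
    | add y z _ _ hy hz =>
      obtain ⟨d, hd, rfl⟩ := hy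
      obtain ⟨e, he, rfl⟩ := hz
      exact ⟨d + e, J.add_mem hd he, by ring⟩
    | smul r y _ hy =>
      obtain ⟨d, hd, rfl⟩ := hy
      exact ⟨r * d, J.mul_mem_left r hd, by simp [mul_assoc]⟩
  obtain ⟨d, hd, h⟩ := key t (by rw [hI]; exact Ideal.mem_span_singleton_self t)
  have : d = 1 := (mul_cancel_right_mem_nonZeroDivisors ht).mp (by rw [one_mul]; exact h.symm)
  exact (Ideal.eq_top_iff_one _).mpr (this ▸ hd)

/-- Locally, the pull-back of `I` to a scheme on which it is effective Cartier is generated by the image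
of an element of `I`. -/
theorem exists_local_generator (g : Y ⟶ Spec (CommRingCat.of A))
    (hC : BlowUp.IsEffCartierIdeal ((sheafOf I).comap g)) (x : Y) {O : Y.Opens} (hxO : x ∈ O) :
    ∃ U : Y.affineOpens, x ∈ U.1 ∧ U.1 ≤ O ∧ ∃ a ∈ I,
      phi g U.1 a ∈ nonZeroDivisors Γ(Y, U.1) ∧ I.map (phi g U.1) = Ideal.span {phi g U.1 a} := by
  obtain ⟨U, hxU, t, ht, hIU⟩ := hC x
  rw [ideal_comap_sheafOf] at hIU
  have htop := span_multipliers_eq_top (phi g U.1) ht hIU
  obtain ⟨d, ⟨a, ha, hd⟩, hdx⟩ : ∃ d ∈ {d : Γ(Y, U.1) | ∃ a ∈ I, phi g U.1 a = d * t},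
      x ∈ Y.basicOpen d := by
    by_contra! hc
    have : x ∈ Y.zeroLocus (U := U.1) {d : Γ(Y, U.1) | ∃ a ∈ I, phi g U.1 a = d * t} :=
      (Scheme.mem_zeroLocus_iff Y _ x).mpr hc
    rw [← Scheme.zeroLocus_span, htop] at this
    exact ((Scheme.mem_zeroLocus_iff Y _ x).mp this 1 trivial) (by simpa using hxU)
  obtain ⟨_, ⟨V, hV, rfl⟩, hxV, hVle⟩ :=
    Y.isBasis_affineOpens.exists_subset_of_mem_open (show x ∈ O ⊓ Y.basicOpen d from ⟨hxO, hdx⟩)
      (O ⊓ Y.basicOpen d).isOpen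
  have hVd : V ≤ Y.basicOpen d := le_trans hVle inf_le_right
  have hVU : V ≤ U.1 := hVd.trans (Y.basicOpen_le d)
  refine ⟨⟨V, hV⟩, hxV, le_trans hVle inf_le_left, a, ha, ?_⟩
  set ρ := (Y.presheaf.map (homOfLE hVU).op).hom
  have hu : IsUnit (ρ d) := by
    have h1 : IsUnit ((Y.presheaf.map (homOfLE (Y.basicOpen_le d)).op).hom d) :=
      RingedSpace.isUnit_res_basicOpen _ d
    have := h1.map (Y.presheaf.map (homOfLE hVd).op).hom
    rw [← RingHom.comp_apply, ← CommRingCat.hom_comp, ← Functor.map_comp] at this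
    exact this
  have hphi : phi g V = ρ.comp (phi g U.1) := phi_restrict g hVU
  have e1 : phi g V a = ρ d * ρ t := by rw [hphi, RingHom.comp_apply, hd, map_mul]
  refine ⟨?_, ?_⟩
  · rw [e1]
    exact mul_mem hu.mem_nonZeroDivisors (restrict_mem_nonZeroDivisors (U := U) (V := ⟨V, hV⟩) hVU ht)
  · rw [e1, Ideal.span_singleton_mul_left_unit hu, hphi, ← Ideal.map_map, hIU, Ideal.map_span,
      Set.image_singleton]

end Groth.BlowUpBasics
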