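import Groth.Agent.BlowUpBasics.AffineBase
import Groth.Agent.BlowUpBasics.AffineAlgebra
import Groth.Agent.BlowUpBasics.Universal

/-!
# Recognising a blow-up of `Spec A` from its charts `Spec A[I/a]`
-/

set_option autoImplicit false
universe u

open CategoryTheory AlgebraicGeometry Limits

namespace Groth.BlowUpBasics

variable {A : Type u} [CommRing A]

/-- The structure map `Spec A[I/a] → Spec A`. -/
noncomputable abbrev chartBase (I : Ideal A) (a : A) :
    Spec (CommRingCat.of (BlowUp.affineAlgebra A I a)) ⟶ Spec (CommRingCat.of A) :=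
  Spec.map (CommRingCat.ofHom (algebraMap A (BlowUp.affineAlgebra A I a)))

/-- Chart data for a blow-up of `Spec A` in `I`. -/
structure Atlas (I : Ideal A) {X' : Scheme.{u}} (b : X' ⟶ Spec (CommRingCat.of A)) where
  j : ∀ a : I, Spec (CommRingCat.of (BlowUp.affineAlgebra A I (a : A))) ⟶ X'
  isOpenImmersion : ∀ a, IsOpenImmersion (j a)
  fac : ∀ a, j a ≫ b = chartBase I (a : A)
  covers : ∀ x : X', ∃ a, x ∈ Set.range (j a)
  overlap : ∀ (a a' : I) (y : Spec (CommRingCat.of (BlowUp.affineAlgebra A I (a' : A)))),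
    y ∈ PrimeSpectrum.basicOpen (frac I (a' : A) (a : A) a.2) → j a' y ∈ Set.range (j a)

attribute [instance] Atlas.isOpenImmersion

/-- The affine open cover attached to an affine neighbourhood of every point. -/
noncomputable def coverOfAffines {Y : Scheme.{u}} (U : Y → Y.affineOpens) (h : ∀ y, y ∈ (U y).1) :
    Y.OpenCover :=
  Scheme.AffineOpenCover.openCover
    { I₀ := Y, X := fun z ↦ Γ(Y, (U z).1), f := fun z ↦ IsAffineOpen.fromSpec (U := (U z).1) (U z).2,
      idx := id,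
      covers := fun z ↦ (IsAffineOpen.range_fromSpec (hU := (U z).2)).symm ▸ h z,
      map_prop := fun z ↦ IsAffineOpen.isOpenImmersion_fromSpec (U z).2 }

namespace Atlas

variable {I : Ideal A} {X' : Scheme.{u}} {b : X' ⟶ Spec (CommRingCat.of A)} (T : Atlas I b)
include T

lemma exists_algHom {S : Type u} [CommRing S] (φ : A →+* S) (h : Spec (CommRingCat.of S) ⟶ X')
    (hh : h ≫ b = Spec.map (CommRingCat.ofHom φ)) (a : I) (hr : Set.range h ⊆ Set.range (T.j a)) :
    ∃ ψ : BlowUp.affineAlgebra A I (a : A) →+* S,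
      ψ.comp (algebraMap A _) = φ ∧ Spec.map (CommRingCat.ofHom ψ) ≫ T.j a = h := by
  let l := IsOpenImmersion.lift (T.j a) h hr
  have hl : l ≫ T.j a = h := IsOpenImmersion.lift_fac _ _ _
  refine ⟨(Spec.preimage l).hom, ?_, ?_⟩
  · have h1 : l ≫ chartBase I (a : A) = Spec.map (CommRingCat.ofHom φ) := by
      rw [← T.fac, ← Category.assoc, hl, hh]
    rw [← Spec.map_preimage l, chartBase, ← Spec.map_comp] at h1
    simpa using congrArg CommRingCat.Hom.hom (Spec.map_injective h1)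
  · rw [CommRingCat.ofHom_hom, Spec.map_preimage, hl]

omit T in
lemma span_eq_of_factor {S : Type u} [CommRing S] {φ : A →+* S} {a : I}
    {ψ : BlowUp.affineAlgebra A I (a : A) →+* S} (h : ψ.comp (algebraMap A _) = φ) :
    I.map φ = Ideal.span {φ (a : A)} := by
  rw [← h, ← Ideal.map_map, map_eq_span a.2, Ideal.map_span, Set.image_singleton]
  rfl

theorem hom_ext {Z : Scheme.{u}} {h h' : Z ⟶ X'} (w : h ≫ b = h' ≫ b)
    (hC : BlowUp.IsEffCartierIdeal ((sheafOf I).comap (h ≫ b))) : h = h' := by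
  have key : ∀ z : Z, ∃ U : Z.affineOpens, z ∈ U.1 ∧ U.2.fromSpec ≫ h = U.2.fromSpec ≫ h' := by
    intro z
    obtain ⟨a, ha⟩ := T.covers (h z)
    obtain ⟨a', ha'⟩ := T.covers (h' z)
    let O : Z.Opens := h ⁻¹ᵁ (T.j a).opensRange ⊓ h' ⁻¹ᵁ (T.j a').opensRange
    obtain ⟨U, hzU, hUO, t, -, ht, htI⟩ := exists_local_generator (h ≫ b) hC z (O := O) ⟨ha, ha'⟩
    refine ⟨U, hzU, ?_⟩
    set φ := phi (h ≫ b) U.1
    have e : (U.2.fromSpec ≫ h) ≫ b = Spec.map (CommRingCat.ofHom φ) := by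
      rw [Category.assoc]; exact fromSpec_comp (h ≫ b) U.2
    have e' : (U.2.fromSpec ≫ h') ≫ b = Spec.map (CommRingCat.ofHom φ) := by
      rw [Category.assoc, ← w]; exact fromSpec_comp (h ≫ b) U.2
    have hr : Set.range (U.2.fromSpec ≫ h) ⊆ Set.range (T.j a) := by
      rintro _ ⟨y, rfl⟩
      exact (hUO (U.2.range_fromSpec ▸ ⟨y, rfl⟩ : U.2.fromSpec y ∈ (U.1 : Set Z))).1
    have hr' : Set.range (U.2.fromSpec ≫ h') ⊆ Set.range (T.j a') := by
      rintro _ ⟨y, rfl⟩
      exact (hUO (U.2.range_fromSpec ▸ ⟨y, rfl⟩ : U.2.fromSpec y ∈ (U.1 : Set Z))).2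
    obtain ⟨ψ, hψ, hψh⟩ := T.exists_algHom φ _ e a hr
    obtain ⟨ψ', hψ', hψh'⟩ := T.exists_algHom φ _ e' a' hr'
    have nzd_of : ∀ x : A, I.map φ = Ideal.span {φ x} → φ x ∈ nonZeroDivisors Γ(Z, U.1) := by
      intro x hx
      obtain ⟨c, hc⟩ := Ideal.mem_span_singleton'.mp
        ((htI.symm.trans hx).le (Ideal.mem_span_singleton_self (φ t)))
      have : c * φ x ∈ nonZeroDivisors Γ(Z, U.1) := hc ▸ ht
      exact (mul_mem_nonZeroDivisors.mp this).2
    have ha_nzd := nzd_of _ (span_eq_of_factor hψ)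
    have hu : IsUnit (ψ' (frac I (a' : A) (a : A) a.2)) := by
      set c := ψ' (frac I (a' : A) (a : A) a.2)
      have hc : c * φ (a' : A) = φ (a : A) := by
        rw [← hψ', RingHom.comp_apply, ← map_mul, frac_mul_algebraMap]; rfl
      obtain ⟨d, hd⟩ := Ideal.mem_span_singleton'.mp
        (((span_eq_of_factor hψ').symm.trans (span_eq_of_factor hψ)).le
          (Ideal.mem_span_singleton_self (φ (a' : A))))
      refine IsUnit.of_mul_eq_one d ((mul_cancel_right_mem_nonZeroDivisors ha_nzd).mp ?_)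
      rw [one_mul, mul_assoc, hd, hc]
    have hr'' : Set.range (U.2.fromSpec ≫ h') ⊆ Set.range (T.j a) := by
      rintro _ ⟨y, rfl⟩
      rw [← hψh']
      refine T.overlap a a' _ ?_
      intro hmem
      exact y.isPrime.ne_top (Ideal.eq_top_of_isUnit_mem _ hmem hu)
    obtain ⟨ψ'', hψ'', hψh''⟩ := T.exists_algHom φ _ e' a hr''
    have : ψ = ψ'' := ringHom_ext (hψ.trans hψ''.symm)
      (by rw [← RingHom.comp_apply, hψ]; exact ha_nzd)
    rw [← hψh, ← hψh'', this]
  choose U hzU hU using key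
  exact Scheme.Cover.hom_ext (𝒰 := coverOfAffines U hzU) h h' fun z ↦ hU z

theorem exists_lift {Y : Scheme.{u}} (g : Y ⟶ Spec (CommRingCat.of A))
    (hC : BlowUp.IsEffCartierIdeal ((sheafOf I).comap g)) : ∃ h : Y ⟶ X', h ≫ b = g := by
  have key : ∀ x : Y, ∃ U : Y.affineOpens, x ∈ U.1 ∧
      ∃ h : Spec Γ(Y, U.1) ⟶ X', h ≫ b = U.2.fromSpec ≫ g := by
    intro x
    obtain ⟨U, hxU, -, a, ha, hnzd, hI⟩ := exists_local_generator g hC x (O := ⊤) trivial
    obtain ⟨ψ, hψ⟩ := exists_ringHom_lift (I := I) (a := a) (phi g U.1) hnzd hI.le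
    refine ⟨U, hxU, Spec.map (CommRingCat.ofHom ψ) ≫ T.j ⟨a, ha⟩, ?_⟩
    rw [Category.assoc, T.fac, chartBase, ← Spec.map_comp, ← CommRingCat.ofHom_comp, hψ]
    exact (fromSpec_comp g U.2).symm
  choose U hxU h hh using key
  let 𝒰 : Y.OpenCover := coverOfAffines U hxU
  have hc : ∀ x y : Y, pullback.fst (𝒰.f x) (𝒰.f y) ≫ h x = pullback.snd _ _ ≫ h y := by
    intro x y
    refine T.hom_ext ?_ ?_
    · exact (Category.assoc _ _ _).trans ((congrArg _ (hh x)).trans
        ((pullback.condition_assoc g).trans ((congrArg _ (hh y)).symm.trans (Category.assoc _ _ _).symm)))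
    · erw [Category.assoc, hh, ← Category.assoc, Scheme.IdealSheafData.comap_comp]
      have h1 : ∀ z : 𝒰.I₀, IsOpenImmersion (𝒰.f z) := fun z ↦ IsAffineOpen.isOpenImmersion_fromSpec (U z).2
      have h2 : IsOpenImmersion (pullback.fst (𝒰.f x) (𝒰.f y) ≫ 𝒰.f x) :=
        @IsOpenImmersion.comp _ _ _ _ _ (MorphismProperty.pullback_fst (P := @IsOpenImmersion) _ _ (h1 y)) (h1 x)
      exact isEffCartierIdeal_comap_of_flat (pullback.fst (𝒰.f x) (𝒰.f y) ≫ 𝒰.f x) hC
  refine ⟨𝒰.glueMorphisms h hc, Scheme.Cover.hom_ext (𝒰 := 𝒰) _ _ fun x ↦ ?_⟩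
  refine (Category.assoc _ _ _).symm.trans ?_
  exact (congrArg (· ≫ b) (Scheme.Cover.ι_glueMorphisms 𝒰 h hc x)).trans (hh x)

theorem isEffCartier : BlowUp.IsEffCartierIdeal ((sheafOf I).comap b) := by
  intro x
  obtain ⟨a, y, rfl⟩ := T.covers x
  let V : X'.affineOpens := ⟨(T.j a) ''ᵁ ⊤, (isAffineOpen_top _).image_of_isOpenImmersion (T.j a)⟩
  let C := BlowUp.affineAlgebra A I (a : A)
  have hphi : phi b V.1 = (((T.j a).appIso ⊤).inv.hom.comp
      (Scheme.ΓSpecIso (CommRingCat.of C)).inv.hom).comp (algebraMap A C) := by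
    rw [RingHom.comp_assoc, ← phi_Spec, show Spec.map (CommRingCat.ofHom (algebraMap A C)) = T.j a ≫ b
      from (T.fac a).symm]
    simp only [phi]
    rw [← Scheme.Hom.appLE_comp_appLE (T.j a) b ⊤ V.1 ⊤ (le_preimage_top b V.1)
      ((T.j a).preimage_image_eq ⊤).ge, ← CommRingCat.hom_comp, Category.assoc, Category.assoc,
      ← Scheme.Hom.appIso_hom', Iso.hom_inv_id, Category.comp_id]
  refine ⟨V, ⟨y, trivial, rfl⟩, phi b V.1 (a : A), ?_, ?_⟩
  · rw [hphi, RingHom.comp_apply]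
    exact map_mem_nonZeroDivisors_of_flat (RingHom.Flat.of_bijective (RingEquiv.bijective
      ((Scheme.ΓSpecIso (CommRingCat.of C)).symm ≪≫ ((T.j a).appIso ⊤).symm).commRingCatIsoToRingEquiv))
      algebraMap_self_mem_nonZeroDivisors
  · rw [ideal_comap_sheafOf, hphi, ← Ideal.map_map, map_eq_span a.2, Ideal.map_span, Set.image_singleton]
    rfl

/-- A scheme with such charts is the blow-up. -/
theorem isBlowUp : BlowUp.IsBlowUp b (sheafOf I) := by
  refine ⟨T.isEffCartier, fun Y g hC ↦ ?_⟩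
  obtain ⟨h, hh⟩ := T.exists_lift g hC
  exact ⟨h, hh, fun h' hh' ↦ T.hom_ext (hh'.trans hh.symm) (by rw [hh']; exact hC)⟩

end Atlas

end Groth.BlowUpBasics
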