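import Groth.Prelude.Def_BlowUp2
import Groth.Agent.BlowUpBasics.IdealComap
import Mathlib.AlgebraicGeometry.Morphisms.Flat
import Mathlib.RingTheory.Flat.TorsionFree

/-!
# Effective Cartier ideals: basic properties
-/

set_option autoImplicit false
universe u

open CategoryTheory AlgebraicGeometry

namespace Groth.BlowUpBasics

variable {X Y : Scheme.{u}}

lemma map_mem_nonZeroDivisors_of_flat {A B : Type u} [CommRing A] [CommRing B] {φ : A →+* B}
    (h : φ.Flat) {a : A} (ha : a ∈ nonZeroDivisors A) : φ a ∈ nonZeroDivisors B := by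
  letI := φ.toAlgebra
  haveI : Module.Flat A B := h
  have h1 : IsSMulRegular B a := Module.Flat.isSMulRegular_of_nonZeroDivisors ha
  rw [mem_nonZeroDivisors_iff_right]
  intro x hx
  refine h1 ?_
  change a • x = a • (0 : B)
  rw [smul_zero, Algebra.smul_def, mul_comm]
  exact hx

lemma appLE_mem_nonZeroDivisors (f : X ⟶ Y) [Flat f] (U : Y.affineOpens) (V : X.affineOpens)
    (e : V.1 ≤ f ⁻¹ᵁ U.1) {a : Γ(Y, U.1)} (ha : a ∈ nonZeroDivisors Γ(Y, U.1)) :
    (f.appLE U.1 V.1 e).hom a ∈ nonZeroDivisors Γ(X, V.1) :=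
  map_mem_nonZeroDivisors_of_flat
    (HasRingHomProperty.appLE @Flat f inferInstance U V e) ha

lemma restrict_mem_nonZeroDivisors {U V : X.affineOpens} (h : V ≤ U) {a : Γ(X, U.1)}
    (ha : a ∈ nonZeroDivisors Γ(X, U.1)) :
    (X.presheaf.map (homOfLE h).op).hom a ∈ nonZeroDivisors Γ(X, V.1) := by
  have := appLE_mem_nonZeroDivisors (𝟙 X) U V h ha
  rw [show (𝟙 X : X ⟶ X).appLE U.1 V.1 h = X.presheaf.map (homOfLE h).op by simp [Scheme.Hom.appLE]; rfl] at this
  exact this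

/-- The inverse image of an effective Cartier ideal by a flat morphism is effective Cartier. -/
theorem isEffCartierIdeal_comap_of_flat (f : X ⟶ Y) [Flat f] {I : Y.IdealSheafData}
    (hI : BlowUp.IsEffCartierIdeal I) : BlowUp.IsEffCartierIdeal (I.comap f) := by
  intro x
  obtain ⟨U, hxU, a, ha, hIU⟩ := hI (f x)
  obtain ⟨_, ⟨V, hV, rfl⟩, hxV, hVU⟩ :=
    X.isBasis_affineOpens.exists_subset_of_mem_open (show x ∈ f ⁻¹ᵁ U.1 from hxU) (f ⁻¹ᵁ U.1).isOpen
  refine ⟨⟨V, hV⟩, hxV, _, appLE_mem_nonZeroDivisors f U ⟨V, hV⟩ hVU ha, ?_⟩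
  rw [ideal_comap f I U ⟨V, hV⟩ hVU, hIU, Ideal.map_span, Set.image_singleton]

end Groth.BlowUpBasics
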