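import Groth.Agent.BlowUpBasics.Charts
import Groth.Prelude.Def_Rees
import Mathlib.AlgebraicGeometry.ProjectiveSpectrum.Basic

/-!
# `Proj` of the Rees algebra is the blow-up of `Spec A`
-/

set_option autoImplicit false
universe u

open CategoryTheory AlgebraicGeometry Polynomial

namespace Groth.BlowUpBasics

variable {A : Type u} [CommRing A] {I : Ideal A}

local notation "𝕊" => reesAlgebra I
local notation "𝒜" => Rees.deg (reesAlgebra I)
local notation "C[" a "]" => BlowUp.affineAlgebra A I a

/-- The element `a X` of the Rees algebra. -/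
noncomputable def lin (a : I) : reesAlgebra I :=
  ⟨monomial 1 (a : A), reesAlgebra.monomial_mem.mpr (by rw [pow_one]; exact a.2)⟩

lemma lin_mem (a : I) : lin a ∈ 𝒜 1 := fun m hm ↦ by
  change (monomial 1 (a : A)).coeff m = 0
  rw [coeff_monomial, if_neg (fun h ↦ hm h.symm)]

lemma monomial_lin_pow (a : I) (n : ℕ) : (((lin a) ^ n : 𝕊) : A[X]) = monomial n ((a : A) ^ n) := by
  simp [lin, monomial_pow]

/-- Evaluation at `X = 1`, into `A_a`. -/
noncomputable def evalOne (a : I) : reesAlgebra I →+* Localization.Away (a : A) :=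
  (algebraMap A (Localization.Away (a : A))).comp
    ((Polynomial.evalRingHom (1 : A)).comp (reesAlgebra I).val.toRingHom)

lemma evalOne_of_mem (a : I) {n : ℕ} {f : 𝕊} (hf : f ∈ 𝒜 n) :
    evalOne a f = algebraMap A _ ((f : A[X]).coeff n) := by
  have : (f : A[X]) = monomial n ((f : A[X]).coeff n) := by
    ext m
    rw [coeff_monomial]
    split_ifs with h
    · rw [h]
    · exact hf m (Ne.symm h)
  change algebraMap A _ ((f : A[X]).eval 1) = _
  conv_lhs => rw [this]
  simp

lemma isUnit_evalOne_lin (a : I) : IsUnit (evalOne a (lin a)) := by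
  rw [evalOne_of_mem a (lin_mem a)]
  simp [lin, IsLocalization.Away.algebraMap_isUnit]

/-- `(S_{aX})_0 → A_a`. -/
noncomputable def theta (a : I) : HomogeneousLocalization.Away 𝒜 (lin a) →+* Localization.Away (a : A) :=
  (IsLocalization.Away.lift (lin a) (isUnit_evalOne_lin a)).comp
    (algebraMap (HomogeneousLocalization.Away 𝒜 (lin a)) (Localization.Away (lin a)))

lemma theta_mk (a : I) (n : ℕ) (x : 𝕊) (hx : x ∈ 𝒜 (n • 1)) :
    theta a (HomogeneousLocalization.Away.mk 𝒜 (lin_mem a) n x hx) * algebraMap A _ ((a : A) ^ n) =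
      algebraMap A _ ((x : A[X]).coeff n) := by
  have hn : x ∈ 𝒜 n := by simpa using hx
  rw [theta, RingHom.comp_apply, HomogeneousLocalization.algebraMap_apply,
    HomogeneousLocalization.Away.val_mk]
  have h : IsLocalization.Away.lift (S := Localization.Away (lin a)) (lin a) (isUnit_evalOne_lin a)
      (Localization.mk x ⟨lin a ^ n, n, rfl⟩) * evalOne a (lin a ^ n) = evalOne a x := by
    rw [← IsLocalization.Away.lift_eq (S := Localization.Away (lin a)) (lin a) (isUnit_evalOne_lin a) (lin a ^ n),
      ← map_mul, Localization.mk_eq_mk', IsLocalization.mk'_spec, IsLocalization.Away.lift_eq]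
  rw [map_pow, evalOne_of_mem a (lin_mem a), evalOne_of_mem a hn] at h
  simpa [lin] using h

lemma exists_mul_pow_eq {a : A} (n : ℕ) (c : A) (hc : c ∈ I ^ n) :
    ∃ q : C[a], (q : Localization.Away a) * algebraMap A _ (a ^ n) = algebraMap A _ c := by
  induction n generalizing c with
  | zero => exact ⟨algebraMap A _ c, by simp⟩
  | succ n ih =>
    rw [pow_succ] at hc
    induction hc using Submodule.mul_induction_on' with
    | mem_mul_mem r hr s hs =>
      obtain ⟨q, hq⟩ := ih r hr
      refine ⟨q * frac I a s hs, ?_⟩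
      rw [pow_succ, map_mul, map_mul, ← hq, MulMemClass.coe_mul, coe_frac,
        ← IsLocalization.mk'_spec (Localization.Away a) s ⟨a, Submonoid.mem_powers a⟩]
      ring
    | add r _ s _ hr hs =>
      obtain ⟨q, hq⟩ := hr
      obtain ⟨q', hq'⟩ := hs
      exact ⟨q + q', by rw [AddMemClass.coe_add, add_mul, hq, hq', map_add]⟩

lemma theta_mem (a : I) (z : HomogeneousLocalization.Away 𝒜 (lin a)) : theta a z ∈ C[(a : A)] := by
  obtain ⟨n, x, hx, rfl⟩ := HomogeneousLocalization.Away.mk_surjective 𝒜 (lin_mem a) z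
  obtain ⟨q, hq⟩ := exists_mul_pow_eq (a := (a : A)) n _ (x.2 n)
  have hu : IsUnit (algebraMap A (Localization.Away (a : A)) ((a : A) ^ n)) := by
    rw [map_pow]; exact (IsLocalization.Away.algebraMap_isUnit _).pow n
  have : theta a (HomogeneousLocalization.Away.mk 𝒜 (lin_mem a) n x hx) = (q : Localization.Away (a : A)) :=
    hu.mul_left_injective ((theta_mk a n x hx).trans hq.symm)
  rw [this]
  exact q.2

/-- `(S_{aX})_0 → A[I/a]`. -/
noncomputable def toChart (a : I) : HomogeneousLocalization.Away 𝒜 (lin a) →+* C[(a : A)] :=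
  (theta a).codRestrict (BlowUp.affineAlgebra A I (a : A)) (theta_mem a)

lemma toChart_fromZero (a : I) (r : A) :
    toChart a (HomogeneousLocalization.fromZeroRingHom 𝒜 _ (algebraMap A (𝒜 0) r)) = algebraMap A _ r := by
  apply Subtype.ext
  change theta a _ = algebraMap A _ r
  rw [theta, RingHom.comp_apply, HomogeneousLocalization.algebraMap_apply]
  change IsLocalization.Away.lift (lin a) (isUnit_evalOne_lin a) (Localization.mk (algebraMap A 𝕊 r) 1) = _
  rw [Localization.mk_one_eq_algebraMap, IsLocalization.Away.lift_eq]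
  change algebraMap A _ ((C r).eval 1) = _
  simp

lemma toChart_mk_one (a : I) (x : I) :
    toChart a (HomogeneousLocalization.Away.mk 𝒜 (lin_mem a) 1 (lin x) (by simpa using lin_mem x)) =
      frac I (a : A) (x : A) x.2 := by
  apply Subtype.ext
  refine (IsLocalization.Away.algebraMap_isUnit (S := Localization.Away (a : A)) (a : A)).mul_left_injective ?_
  have h := theta_mk a 1 (lin x) (by simpa using lin_mem x)
  simp only [pow_one] at h
  refine h.trans ?_
  rw [coe_frac]
  simp [lin]

lemma toChart_bijective (a : I) : Function.Bijective (toChart a) := by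
  constructor
  · rw [injective_iff_map_eq_zero]
    intro z hz
    obtain ⟨n, x, hx, rfl⟩ := HomogeneousLocalization.Away.mk_surjective 𝒜 (lin_mem a) z
    have h0 : theta a (HomogeneousLocalization.Away.mk 𝒜 (lin_mem a) n x hx) = 0 :=
      congrArg Subtype.val hz
    have h := theta_mk a n x hx
    rw [h0, zero_mul] at h
    obtain ⟨⟨_, m, rfl⟩, hm⟩ := (IsLocalization.map_eq_zero_iff (Submonoid.powers (a : A))
      (Localization.Away (a : A)) _).mp h.symm
    apply HomogeneousLocalization.val_injective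
    rw [HomogeneousLocalization.Away.val_mk, HomogeneousLocalization.val_zero, Localization.mk_eq_mk',
      IsLocalization.mk'_eq_zero_iff]
    refine ⟨⟨_, m, rfl⟩, Subtype.ext ?_⟩
    have hn : x ∈ 𝒜 n := by simpa using hx
    have hx' : (x : A[X]) = monomial n ((x : A[X]).coeff n) := by
      ext k
      rw [coeff_monomial]
      split_ifs with h
      · rw [h]
      · exact hn k (Ne.symm h)
    rw [MulMemClass.coe_mul, monomial_lin_pow, hx', monomial_mul_monomial, hm]
    simp
  · rintro ⟨q, hq⟩
    induction hq using Algebra.adjoin_induction with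
    | mem q hq =>
      obtain ⟨x, hx, rfl⟩ := hq
      exact ⟨_, toChart_mk_one a ⟨x, hx⟩⟩
    | algebraMap r => exact ⟨_, toChart_fromZero a r⟩
    | add q q' _ _ h h' =>
      obtain ⟨z, hz⟩ := h
      obtain ⟨z', hz'⟩ := h'
      exact ⟨z + z', by rw [map_add, hz, hz']; rfl⟩
    | mul q q' _ _ h h' =>
      obtain ⟨z, hz⟩ := h
      obtain ⟨z', hz'⟩ := h'
      exact ⟨z * z', by rw [map_mul, hz, hz']; rfl⟩

/-- `(S_{aX})_0 ≅ A[I/a]`. -/
noncomputable def chartEquiv (a : I) : HomogeneousLocalization.Away 𝒜 (lin a) ≃+* C[(a : A)] :=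
  RingEquiv.ofBijective (toChart a) (toChart_bijective a)

variable (I) in
/-- The structure map of `Proj` of the Rees algebra. -/
noncomputable def projBase : Proj (Rees.deg (reesAlgebra I)) ⟶ Spec (CommRingCat.of A) :=
  Proj.toSpecZero _ ≫ Spec.map (CommRingCat.ofHom (algebraMap A (Rees.deg (reesAlgebra I) 0)))

lemma irrelevant_le_span :
    (HomogeneousIdeal.irrelevant 𝒜).toIdeal ≤ Ideal.span (Set.range (lin (I := I))) := by
  intro f hf
  have h0 : (f : A[X]).coeff 0 = 0 := by
    have h := (HomogeneousIdeal.mem_irrelevant_iff 𝒜 f).mp hf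
    rw [GradedRing.proj_apply] at h
    classical
    have hs := congrArg (fun s : 𝕊 ↦ (s : A[X]).coeff 0) (DirectSum.sum_support_decompose 𝒜 f)
    simp only [AddSubmonoidClass.coe_finsetSum, finsetSum_coeff] at hs
    rw [← hs]
    refine Finset.sum_eq_zero fun i _ ↦ ?_
    by_cases hi : i = 0
    · subst hi
      rw [h]
      simp
    · exact (DirectSum.decompose 𝒜 f i).2 0 (Ne.symm hi)
  have key : ∀ (m : ℕ) (c : A) (hc : c ∈ I ^ (m + 1)),
      (⟨monomial (m + 1) c, reesAlgebra.monomial_mem.mpr hc⟩ : 𝕊) ∈ Ideal.span (Set.range (lin (I := I))) := by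
    intro m c hc
    have hc' : c ∈ I * I ^ m := by rwa [← pow_succ']
    induction hc' using Submodule.mul_induction_on' with
    | mem_mul_mem r hr s hs =>
      have e : (⟨monomial (m + 1) (r * s), reesAlgebra.monomial_mem.mpr hc⟩ : 𝕊) =
          ⟨monomial m s, reesAlgebra.monomial_mem.mpr hs⟩ * lin ⟨r, hr⟩ := by
        apply Subtype.ext
        simp [lin, monomial_mul_monomial, mul_comm]
      rw [e]
      exact Ideal.mul_mem_left _ _ (Ideal.subset_span ⟨_, rfl⟩)
    | add r hr s hs ihr ihs =>
      rw [← pow_succ'] at hr hs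
      have e : (⟨monomial (m + 1) (r + s), reesAlgebra.monomial_mem.mpr hc⟩ : 𝕊) =
          ⟨monomial (m + 1) r, reesAlgebra.monomial_mem.mpr hr⟩ +
            ⟨monomial (m + 1) s, reesAlgebra.monomial_mem.mpr hs⟩ := Subtype.ext (map_add _ _ _)
      rw [e]
      exact add_mem (ihr hr) (ihs hs)
  have hsum : f = ∑ m ∈ (f : A[X]).support,
      (⟨monomial m ((f : A[X]).coeff m), Rees.IsCoeffClosed.monomial_coeff_mem _ f.2 m⟩ : 𝕊) := by
    apply Subtype.ext
    rw [AddSubmonoidClass.coe_finsetSum]
    exact (f : A[X]).as_sum_support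
  rw [hsum]
  refine Ideal.sum_mem _ fun m hm ↦ ?_
  cases m with
  | zero => exact absurd h0 (Polynomial.mem_support_iff.mp hm)
  | succ m => exact key m _ (f.2 (m + 1))

lemma toChart_isLocalizationElem (a a' : I) :
    toChart a' (HomogeneousLocalization.Away.isLocalizationElem (lin_mem a') (lin_mem a)) =
      frac I (a' : A) (a : A) a.2 := by
  rw [← toChart_mk_one a' a]
  refine congrArg (toChart a') (HomogeneousLocalization.val_injective _ ?_)
  simp [HomogeneousLocalization.Away.val_mk]

lemma mem_range_of_frac (a a' : I) (y : Spec (CommRingCat.of C[(a' : A)]))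
    (hy : y ∈ PrimeSpectrum.basicOpen (frac I (a' : A) (a : A) a.2)) :
    Proj.awayι 𝒜 (lin a') (lin_mem a') Nat.one_pos (Spec.map (chartEquiv a').toCommRingCatIso.hom y) ∈
      Proj.basicOpen 𝒜 (lin a) := by
  refine (SetLike.ext_iff.mp
    (Proj.awayι_preimage_basicOpen 𝒜 (lin_mem a') Nat.one_pos (lin_mem a) Nat.one_pos) _).mpr ?_
  intro h
  apply hy
  rw [← toChart_isLocalizationElem a a']
  exact h

variable (I) in
/-- The chart atlas of `Proj` of the Rees algebra. -/
noncomputable def projAtlas : Atlas I (projBase I) where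
  j a := Spec.map (chartEquiv a).toCommRingCatIso.hom ≫ Proj.awayι 𝒜 (lin a) (lin_mem a) Nat.one_pos
  isOpenImmersion a := inferInstance
  fac a := by
    rw [Category.assoc, projBase, Proj.awayι_toSpecZero_assoc, chartBase, ← Spec.map_comp, ← Spec.map_comp]
    congr 1
    ext r : 2
    exact toChart_fromZero a r
  covers x := by
    obtain ⟨a, ha⟩ := TopologicalSpace.Opens.mem_iSup.mp
      ((Proj.iSup_basicOpen_eq_top 𝒜 (lin (I := I)) irrelevant_le_span).ge (show x ∈ ⊤ from trivial))
    refine ⟨a, ?_⟩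
    rw [← Proj.opensRange_awayι 𝒜 (lin a) (lin_mem a) Nat.one_pos] at ha
    rw [← Scheme.Hom.coe_opensRange, Scheme.Hom.opensRange_comp_of_isIso]
    exact ha
  overlap a a' y hy := by
    rw [← Scheme.Hom.coe_opensRange, Scheme.Hom.opensRange_comp_of_isIso, Proj.opensRange_awayι,
      Scheme.Hom.comp_apply]
    exact mem_range_of_frac a a' y hy

variable (I) in
theorem isBlowUp_projBase : BlowUp.IsBlowUp (projBase I) (sheafOf I) := (projAtlas I).isBlowUp

end Groth.BlowUpBasics
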