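import Groth.Agent.BlowUpBasics.IdealComap
import Groth.Prelude.Def_BlowUp2
import Groth.Agent.Divisors.EffCartier

/-!
# Separation of strict transforms by an invertible ideal
-/

set_option autoImplicit false
universe u

open CategoryTheory AlgebraicGeometry

namespace Groth.BlowUpBasics

variable {X Z : Scheme.{u}}

lemma basicOpen_mul_eq {U : X.Opens} (a c : Γ(X, U)) :
    X.basicOpen (a * c) = X.basicOpen a ⊓ X.basicOpen c := X.basicOpen_mul a c

lemma basicOpen_appLE (f : Z ⟶ X) (W : Z.Opens) (V : X.Opens) (h : W ≤ f ⁻¹ᵁ V) (s : Γ(X, V)) :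
    Z.basicOpen ((f.appLE V W h).hom s) = W ⊓ f ⁻¹ᵁ X.basicOpen s := by
  rw [Scheme.preimage_basicOpen, Scheme.Hom.appLE, CommRingCat.hom_comp, RingHom.comp_apply,
    Scheme.basicOpen_res]

/-- If `A ≤ K` with `K` effective Cartier and, on `Z`, `K` is contained in `A + G`, then the closure of a
set in `V(A) ∖ V(K)` pulls back to something disjoint from the closure of a set in `V(G) ∖ V(K)`. -/
theorem disjoint_closure_of_le (p : Z ⟶ X) {A K : X.IdealSheafData} {G : Z.IdealSheafData}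
    (hK : BlowUp.IsEffCartierIdeal K) (hAK : A ≤ K) (hincl : K.comap p ≤ A.comap p ⊔ G)
    {S : Set X} {R : Set Z} (hS : ∀ y ∈ S, y ∈ A.support ∧ y ∉ K.support)
    (hR : ∀ w ∈ R, w ∈ G.support ∧ p w ∉ K.support) :
    Disjoint ((fun z => p z) ⁻¹' closure S) (closure R) := by
  rw [Set.disjoint_left]
  intro z hzS hzR
  obtain ⟨V, hxV, t, -, ht⟩ := hK (p z)
  obtain ⟨W, hzW, hW⟩ := Groth.Divisors.exists_affine_le z (p ⁻¹ᵁ V.1) hxV
  set φ := (p.appLE V.1 W.1 hW).hom
  set D := {d : Γ(X, V.1) | d * t ∈ A.ideal V}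
  have hDz : ∀ d ∈ D, z ∉ Z.basicOpen (φ d) := by
    intro d hd hz
    have hz' : p z ∈ X.basicOpen d := by
      have h := basicOpen_appLE p W.1 V.1 hW d
      rw [show Z.basicOpen (φ d) = W.1 ⊓ p ⁻¹ᵁ X.basicOpen d from h] at hz
      exact hz.2
    obtain ⟨y, hy, hyS⟩ := mem_closure_iff.mp hzS _ (X.basicOpen d).isOpen hz'
    have hyV : y ∈ V.1 := X.basicOpen_le d hy
    have hyt : y ∈ X.basicOpen t :=
      (X.mem_basicOpen t y hyV).mpr ((Groth.Divisors.not_mem_support_iff ht hyV).mp (hS y hyS).2)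
    have h2 := (Scheme.IdealSheafData.mem_support_iff_of_mem hyV).mp (hS y hyS).1
    exact (Scheme.mem_zeroLocus_iff X _ y).mp h2 _ hd (by rw [basicOpen_mul_eq]; exact ⟨hy, hyt⟩)
  have hAW : (A.comap p).ideal W ≤ Ideal.span (φ '' D) * Ideal.span {φ t} := by
    rw [ideal_comap p A V W hW]
    refine Ideal.map_le_iff_le_comap.mpr fun s hs => ?_
    obtain ⟨d, rfl⟩ := Ideal.mem_span_singleton'.mp (ht.le (hAK V hs))
    rw [Ideal.mem_comap, map_mul]
    exact Ideal.mul_mem_mul (Ideal.subset_span ⟨d, hs, rfl⟩) (Ideal.mem_span_singleton_self _)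
  have htW : φ t ∈ (A.comap p).ideal W ⊔ G.ideal W := by
    have h1 := hincl W
    rw [Scheme.IdealSheafData.ideal_sup, Pi.sup_apply] at h1
    exact h1 (by rw [ideal_comap p K V W hW]; exact Ideal.mem_map_of_mem _ (ht.ge (Ideal.mem_span_singleton_self t)))
  obtain ⟨a, ha, g, hg, hag⟩ := Submodule.mem_sup.mp htW
  obtain ⟨e, he, rfl⟩ := Ideal.mem_mul_span_singleton.mp (hAW ha)
  have hez : z ∉ Z.basicOpen e := by
    have h1 : z ∈ Z.zeroLocus (U := W.1) (φ '' D) := by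
      rw [Scheme.mem_zeroLocus_iff]
      rintro _ ⟨d, hd, rfl⟩
      exact hDz d hd
    rw [← Scheme.zeroLocus_span] at h1
    exact (Scheme.mem_zeroLocus_iff Z _ z).mp h1 e he
  have hu : z ∈ Z.basicOpen (1 - e) := by
    rw [Z.mem_basicOpen _ z hzW]
    rw [Z.mem_basicOpen _ z hzW] at hez
    rw [map_sub, map_one]
    exact ((IsLocalRing.isUnit_or_isUnit_one_sub_self _).resolve_left hez)
  obtain ⟨w, hw, hwR⟩ := mem_closure_iff.mp hzR _ (Z.basicOpen (1 - e)).isOpen hu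
  have hwW : w ∈ W.1 := Z.basicOpen_le _ hw
  have hwt : w ∈ Z.basicOpen (φ t) := by
    have h := basicOpen_appLE p W.1 V.1 hW t
    rw [show Z.basicOpen (φ t) = W.1 ⊓ p ⁻¹ᵁ X.basicOpen t from h]
    exact ⟨hwW, (X.mem_basicOpen t _ (hW hwW)).mpr
      ((Groth.Divisors.not_mem_support_iff ht (hW hwW)).mp (hR w hwR).2)⟩
  have h2 := (Scheme.IdealSheafData.mem_support_iff_of_mem hwW).mp (hR w hwR).1
  refine (Scheme.mem_zeroLocus_iff Z _ w).mp h2 g hg ?_
  rw [show g = (1 - e) * φ t by linear_combination hag, basicOpen_mul_eq]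
  exact ⟨hw, hwt⟩

end Groth.BlowUpBasics
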