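import Groth.Agent.BlowUpBasics.Universal
import Groth.Agent.BlowUpBasics.IdealComap
import Groth.Agent.Divisors.EffCartierMore
import Mathlib.AlgebraicGeometry.Morphisms.ClosedImmersion

/-!
# The strict transform of a closed subscheme

If `f : Y ⟶ X` is a closed immersion and `b : X' ⟶ X` a blow-up in `I`, the scheme-theoretic closure in `X'`
of `Y ∖ V(I)` has the universal property of the blow-up of `Y` in `I · O_Y`.
-/

set_option autoImplicit false
set_option linter.style.haveILetI false
universe u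

open CategoryTheory AlgebraicGeometry Limits

namespace Groth.BlowUpBasics

variable {X Y X' Y' : Scheme.{u}}

/-- The morphism to the scheme-theoretic image is scheme-theoretically dominant. -/
lemma isSchemeTheoreticallyDominant_toImage (f : Y ⟶ X) [QuasiCompact f] :
    IsSchemeTheoreticallyDominant f.toImage := by
  refine ⟨?_⟩
  refine Scheme.IdealSheafData.ext_of_iSup_eq_top
    (fun V : X.affineOpens ↦ (⟨f.imageι ⁻¹ᵁ V.1, V.2.preimage f.imageι⟩ : f.image.affineOpens)) ?_ fun V ↦ ?_
  · show ⨆ V : X.affineOpens, f.imageι ⁻¹ᵁ V.1 = ⊤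
    rw [← Scheme.Hom.preimage_iSup, iSup_affineOpens_eq_top, Scheme.Hom.preimage_top]
  · rw [Scheme.Hom.ker_apply, Scheme.IdealSheafData.ideal_bot, Pi.bot_apply]
    exact (RingHom.injective_iff_ker_eq_bot _).mp (f.toImage_app_injective V)

variable {I : X.IdealSheafData} {b : X' ⟶ X}

/-- The morphism `Y ∖ V(I) ⟶ X'` into the blow-up, together with what is needed about it. -/
lemma exists_strictTransformMap (hb : BlowUp.IsBlowUp b I) (f : Y ⟶ X) [IsClosedImmersion f] :
    ∃ j : (f ⁻¹ᵁ I.support.compl).toScheme ⟶ X',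
      QuasiCompact j ∧ j ≫ b = (f ⁻¹ᵁ I.support.compl).ι ≫ f ∧
        Set.range j ⊆ (b ⁻¹ᵁ I.support.compl : X'.Opens) := by
  haveI := isIso_morphismRestrict hb I.support.compl disjoint_compl_right
  haveI : QuasiCompact ((b ⁻¹ᵁ I.support.compl).ι : _ ⟶ X') := by
    have e : b ⁻¹ᵁ I.support.compl = ((I.comap b).support.compl : X'.Opens) := by
      ext y; simp [TopologicalSpace.Closeds.compl]
    rw [e]
    haveI := Groth.Divisors.isAffineHom_compl (Groth.Divisors.isLocPrincipal_of_isEffCartier hb.1)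
    exact (inferInstance : QuasiCompact (Groth.Divisors.complOpens (I.comap b)).ι)
  refine ⟨((f ∣_ I.support.compl) ≫ inv (b ∣_ I.support.compl)) ≫ (b ⁻¹ᵁ I.support.compl).ι,
    inferInstance, ?_, ?_⟩
  · rw [Category.assoc, ← morphismRestrict_ι, Category.assoc, IsIso.inv_hom_id_assoc, morphismRestrict_ι]
  · rintro _ ⟨y, rfl⟩
    exact ((((f ∣_ I.support.compl) ≫ inv (b ∣_ I.support.compl)) y)).2

/-- The strict transform of a closed subscheme is its blow-up, embedded as a closed subscheme. -/
theorem exists_strictTransform (hb : BlowUp.IsBlowUp b I) (f : Y ⟶ X) [IsClosedImmersion f] :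
    ∃ (W : Scheme.{u}) (w : W ⟶ X') (g : W ⟶ Y), IsClosedImmersion w ∧ g ≫ f = w ≫ b ∧
      BlowUp.IsBlowUp g (I.comap f) := by
  obtain ⟨j, hjqc, hjb, hjr⟩ := exists_strictTransformMap hb f
  haveI := isSchemeTheoreticallyDominant_toImage j
  have hker : f.ker ≤ (j.imageι ≫ b).ker := by
    have h1 : (j.toImage ≫ j.imageι ≫ b).ker = (j.imageι ≫ b).ker := by
      rw [Scheme.Hom.ker_comp, j.toImage.ker_eq_bot, Scheme.IdealSheafData.map_bot]
    rw [← h1, Scheme.Hom.toImage_imageι_assoc, hjb]
    exact Scheme.Hom.le_ker_comp _ _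
  set g := IsClosedImmersion.lift f (j.imageι ≫ b) hker
  have hg : g ≫ f = j.imageι ≫ b := IsClosedImmersion.lift_fac _ _ _
  refine ⟨j.image, j.imageι, g, inferInstance, hg, ?_, fun T k hk ↦ ?_⟩
  · rw [← Scheme.IdealSheafData.comap_comp, hg, Scheme.IdealSheafData.comap_comp]
    intro x
    obtain ⟨V, hxV, t, -, htV⟩ := hb.1 (j.imageι x)
    refine ⟨⟨j.imageι ⁻¹ᵁ V.1, V.2.preimage j.imageι⟩, hxV, j.imageι.app V.1 t, ?_, ?_⟩
    · have hu : IsUnit (j.toImage.app (j.imageι ⁻¹ᵁ V.1) (j.imageι.app V.1 t)) := by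
        refine RingedSpace.isUnit_of_isUnit_germ _ _ _ fun y hy ↦ ?_
        have hjy : j y ∈ V.1 := by
          rw [← Scheme.Hom.toImage_imageι j]; exact hy
        have hnot : j y ∉ (I.comap b).support := by
          rw [Scheme.IdealSheafData.support_comap]
          exact hjr ⟨y, rfl⟩
        have hty : j y ∈ X'.basicOpen t :=
          (X'.mem_basicOpen t _ hjy).mpr ((Groth.Divisors.not_mem_support_iff htV hjy).mp hnot)
        have hpre : y ∈ (j.toImage ≫ j.imageι) ⁻¹ᵁ X'.basicOpen t := by
          rw [Scheme.Hom.toImage_imageι j]; exact hty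
        rw [Scheme.preimage_basicOpen] at hpre
        exact (RingedSpace.mem_basicOpen _ _ _ hy).mp hpre
      have hinj := j.toImage_app_injective V
      rw [mem_nonZeroDivisors_iff_right]
      intro s hs
      refine hinj ?_
      rw [map_zero]
      refine hu.mul_left_eq_zero.mp ?_
      rw [← map_mul, hs, map_zero]
    · rw [ideal_comap j.imageι _ V _ le_rfl, htV, Ideal.map_span, Set.image_singleton,
        ← Scheme.Hom.app_eq_appLE]
  · rw [← Scheme.IdealSheafData.comap_comp] at hk
    obtain ⟨h, hh, -⟩ := hb.2 T (k ≫ f) hk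
    set P : T.Opens := h ⁻¹ᵁ b ⁻¹ᵁ I.support.compl with hP
    haveI : IsSchemeTheoreticallyDominant P.ι := by
      have e : P = ((I.comap (k ≫ f)).support.compl : T.Opens) := by
        rw [← hh]
        ext y
        simp [P, TopologicalSpace.Closeds.compl]
      rw [e]
      exact isSchemeTheoreticallyDominant_compl hk
    let l : P.toScheme ⟶ (f ⁻¹ᵁ I.support.compl).toScheme :=
      IsOpenImmersion.lift (f ⁻¹ᵁ I.support.compl).ι (P.ι ≫ k) (by
        rw [Scheme.Opens.range_ι]
        rintro _ ⟨y, rfl⟩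
        show (k ≫ f) y.1 ∈ I.support.compl
        rw [← hh]
        exact y.2)
    have hl : l ≫ j = P.ι ≫ h := by
      refine hom_ext_isBlowUp hb ?_ ?_
      · rw [Category.assoc, hjb, IsOpenImmersion.lift_fac_assoc, Category.assoc, Category.assoc, hh]
      · rw [comap_eq_top_of_range_subset _ _]
        · exact isEffCartierIdeal_top
        · rintro _ ⟨y, rfl⟩
          exact hjr ⟨l y, rfl⟩
    have hle : j.imageι.ker ≤ h.ker := by
      have h1 : (P.ι ≫ h).ker = h.ker := by
        rw [Scheme.Hom.ker_comp, P.ι.ker_eq_bot, Scheme.IdealSheafData.map_bot]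
      rw [← h1, ← hl, Scheme.Hom.imageι, Scheme.IdealSheafData.ker_subschemeι]
      exact Scheme.Hom.le_ker_comp _ _
    refine ⟨IsClosedImmersion.lift j.imageι h hle, ?_, fun k' hk' ↦ ?_⟩
    · show _ ≫ g = k
      rw [← cancel_mono f, Category.assoc, hg, IsClosedImmersion.lift_fac_assoc, hh]
    · replace hk' : k' ≫ g = k := hk'
      rw [← cancel_mono j.imageι, IsClosedImmersion.lift_fac]
      refine hom_ext_isBlowUp hb ?_ ?_
      · rw [Category.assoc, ← hg, ← Category.assoc, hk', hh]
      · rw [Category.assoc, ← hg, ← Category.assoc, hk']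
        exact hk

/-- The morphism of blow-ups attached to a closed immersion is a closed immersion. -/
theorem isClosedImmersion_strictTransform (hb : BlowUp.IsBlowUp b I) (f : Y ⟶ X) [IsClosedImmersion f]
    {b' : Y' ⟶ Y} (hb' : BlowUp.IsBlowUp b' (I.comap f)) {f' : Y' ⟶ X'} (hf' : f' ≫ b = b' ≫ f) :
    IsClosedImmersion f' := by
  obtain ⟨W, w, g, hw, hg, hgb⟩ := exists_strictTransform hb f
  obtain ⟨e, he⟩ := exists_iso_of_isBlowUp hb' hgb
  have : f' = e.hom ≫ w := by
    refine hom_ext_isBlowUp hb ?_ ?_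
    · rw [hf', Category.assoc, ← hg, ← Category.assoc, he]
    · rw [hf', Scheme.IdealSheafData.comap_comp]
      exact hb'.1
  rw [this]
  infer_instance

end Groth.BlowUpBasics
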