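import Groth.Agent.BlowUpBasics.EffCartier
import Mathlib.AlgebraicGeometry.Properties

/-!
# Sections of the centre along strict transforms
-/

set_option autoImplicit false
universe u

open CategoryTheory AlgebraicGeometry

namespace Groth.BlowUpBasics

variable {X X' Y : Scheme.{u}}

/-- A local generator of `J` cannot become zero near a point of a scheme on which `J` pulls back to an
effective Cartier divisor. -/
lemma generator_pullback_ne_zero (k : Y ⟶ X') {J : X'.IdealSheafData}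
    (hC : BlowUp.IsEffCartierIdeal (J.comap k)) (U : X'.affineOpens) {t : Γ(X', U.1)}
    (hJ : J.ideal U = Ideal.span {t}) {O : Y.Opens} (hO : O ≤ k ⁻¹ᵁ U.1) {y : Y} (hy : y ∈ O) :
    (k.appLE U.1 O hO).hom t ≠ 0 := by
  intro h0
  obtain ⟨W, hyW, f, hf, hW⟩ := hC y
  obtain ⟨_, ⟨V, hV, rfl⟩, hyV, hle⟩ :=
    Y.isBasis_affineOpens.exists_subset_of_mem_open (show y ∈ O ⊓ W.1 from ⟨hy, hyW⟩) (O ⊓ W.1).isOpen
  have hVO : V ≤ O := le_trans hle inf_le_left
  have hVW : (⟨V, hV⟩ : Y.affineOpens) ≤ W := show V ≤ W.1 from le_trans hle inf_le_right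
  have h1 := ideal_comap k J U ⟨V, hV⟩ (hVO.trans hO)
  rw [hJ, Ideal.map_span, Set.image_singleton] at h1
  have h2 : (k.appLE U.1 V (hVO.trans hO)).hom t = 0 := by
    rw [← Scheme.Hom.appLE_map k hO (homOfLE hVO).op, CommRingCat.hom_comp, RingHom.comp_apply, h0,
      map_zero]
  rw [h2, ← (J.comap k).map_ideal hVW, hW, Ideal.map_span, Set.image_singleton] at h1
  have h3 := restrict_mem_nonZeroDivisors hVW hf
  have h4 : (Y.presheaf.map (homOfLE hVW).op).hom f = 0 := by
    have hm : (Y.presheaf.map (homOfLE hVW).op).hom f ∈ Ideal.span ({0} : Set Γ(Y, V)) :=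
      h1 ▸ Ideal.mem_span_singleton_self _
    simpa using hm
  rw [h4] at h3
  haveI : Nonempty V := ⟨⟨y, hyV⟩⟩
  exact @zero_notMem_nonZeroDivisors Γ(Y, V) _ (Scheme.component_nontrivial Y V) h3

/-- A section of `I` over `V` pulls back to zero along a morphism lifting one into `V(I)`. -/
lemma appLE_eq_zero_of_mem (b : X' ⟶ X) (k : Y ⟶ X') {I : X.IdealSheafData}
    (b' : Y ⟶ I.subscheme) (hk : k ≫ b = b' ≫ I.subschemeι) (V : X.affineOpens)
    (V' : X'.Opens) (hV' : V' ≤ b ⁻¹ᵁ V.1) (O : Y.Opens) (hO : O ≤ k ⁻¹ᵁ V') :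
    ∀ s ∈ I.ideal V, (k.appLE V' O hO).hom ((b.appLE V.1 V' hV').hom s) = 0 := by
  intro s hs
  rw [← RingHom.comp_apply, ← CommRingCat.hom_comp, Scheme.Hom.appLE_comp_appLE]
  simp only [hk]
  rw [Scheme.Hom.comp_appLE, CommRingCat.hom_comp, RingHom.comp_apply]
  rw [← I.ker_subschemeι_app V, RingHom.mem_ker] at hs
  rw [hs, map_zero]

end Groth.BlowUpBasics
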